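import Cfsg.Agent.H681.TI.Final
import Cfsg.Agent.H608.TI.Count
import Cfsg.Agent.H723.TI.Defs
import Cfsg.Agent.H34.TI.Defs
import Cfsg.Agent.Lib.Cores
import Cfsg.Agent.H95.StemCover

/-!
# S4819: the exceptional rows from the counts `Cnt` (helper681)

`H = G / O_{p'}(G)`, `S1` the image of the normal closure `E` of the TI Sylow `p`-subgroup `P`.

* `isTI_surj` : the Sylow `p`-subgroups of `T / K` are TI;
* `rk_of_frame` : `Rk p P` from `O_{p'}(G) ≤ C(P)`, `C_H(P)` has no `p'`-elements, `H / S1` cyclic, `Cnt p U` for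
  `S1 ≤ U ≤ H`, and the condition `hlin` on the characters of `O_{p'}(G)` nontrivial on `O_{p'}(G) ∩ E`;
* `rk_of_disj` : the case `O_{p'}(G) ∩ E = 1`;
* `normalClosure_eq` : `S1 = S` when `P ≤ S` in `Sit`;
* `disj_of_mult`, `card_dvd_of_mult` : `O_{p'}(G) ∩ E` and the Schur multiplier of `S1`.
-/

set_option autoImplicit false
set_option linter.style.haveILetI false
set_option linter.unusedSectionVars false

open Cfsg
open scoped Pointwise commutatorElement

namespace Cfsg.Agent.H681.TI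

open Cfsg.Agent.H672 Cfsg.Agent.H672.RM Cfsg.Agent.H675.Nd Cfsg.Agent.Characters.Core
open Cfsg.Agent.H723.TI (TIs Rk Sit img)
open Cfsg.Agent.H34.TI (Cnt IsTI)

universe u v w

section ti
variable {G : Type u} [Group G] [Finite G] {p : ℕ} [hp : Fact p.Prime]

/-- An element `a c` of `p`-power order, `a ∈ P`, `c` in a `p'`-subgroup centralising `P`. -/
theorem eq_one_of_mul_pow (P : Sylow p G) {K : Subgroup G} (hK : ¬ p ∣ Nat.card K)
    (hKC : K ≤ Subgroup.centralizer ((P : Subgroup G) : Set G)) {a c : G} (ha : a ∈ (P : Subgroup G)) (hc : c ∈ K)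
    (h : ∃ m : ℕ, (a * c) ^ p ^ m = 1) : c = 1 := by
  obtain ⟨m, hm⟩ := h
  have hcomm : Commute a c := (Subgroup.mem_centralizer_iff.1 (hKC hc) a ha)
  rw [hcomm.mul_pow] at hm
  obtain ⟨l, hl⟩ := P.2 ⟨a, ha⟩
  have hl' : a ^ p ^ l = 1 := congrArg Subtype.val hl
  have h3 : (a * c) ^ p ^ (m + l) = 1 := by
    rw [hcomm.mul_pow, pow_add, pow_mul, pow_mul, ← (hcomm.pow_pow _ _).mul_pow, hm, one_pow]
  rw [hcomm.mul_pow, pow_add, mul_comm (p ^ m) (p ^ l), pow_mul a, hl', one_pow, one_mul] at h3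
  have h4 : orderOf c ∣ p ^ l * p ^ m := orderOf_dvd_of_pow_eq_one h3
  have h5 : orderOf c ∣ Nat.card K := by
    have := orderOf_dvd_natCard (⟨c, hc⟩ : K)
    rwa [Subgroup.orderOf_mk] at this
  have h6 : Nat.Coprime (p ^ l * p ^ m) (Nat.card K) := by
    rw [← pow_add]
    exact Nat.Coprime.pow_left _ ((Nat.Prime.coprime_iff_not_dvd hp.out).2 hK)
  exact orderOf_eq_one_iff.1 (Nat.eq_one_of_dvd_coprimes h6 h4 h5)

/-- The Sylow `p`-subgroups of `T / K` are TI. -/
theorem isTI_surj (P : Sylow p G) (hTI : TIs P) {K : Subgroup G} (hK : ¬ p ∣ Nat.card K)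
    (hKC : K ≤ Subgroup.centralizer ((P : Subgroup G) : Set G)) {T : Subgroup G} (hPT : (P : Subgroup G) ≤ T)
    {Q : Type w} [Group Q] [Finite Q] (π : T →* Q) (hπ : Function.Surjective π)
    (hker : ∀ t : T, π t = 1 ↔ (t : G) ∈ K) (R : Sylow p Q) : IsTI (R : Subgroup Q) := by
  let P' : Sylow p T := P.subtype hPT
  let R0 : Sylow p Q := P'.mapSurjective hπ
  obtain ⟨q, hq⟩ := MulAction.exists_smul_eq Q R0 R
  obtain ⟨t0, rfl⟩ := hπ q
  have hR : ∀ y : Q, y ∈ (R : Subgroup Q) ↔ ∃ a : T, (a : G) ∈ (P : Subgroup G) ∧ π (t0 * a * t0⁻¹) = y := by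
    intro y
    rw [← hq]
    constructor
    · rintro ⟨z, ⟨a, ha, rfl⟩, rfl⟩
      exact ⟨a, ha, by rw [map_mul, map_mul, map_inv]; rfl⟩
    · rintro ⟨a, ha, rfl⟩
      exact ⟨π a, ⟨a, ha, rfl⟩, by rw [map_mul, map_mul, map_inv]; rfl⟩
  intro x hx
  obtain ⟨s, rfl⟩ := hπ x
  rw [eq_bot_iff]
  rintro y ⟨hy1, hy2⟩
  rw [Subgroup.mem_bot]
  obtain ⟨a, ha, rfl⟩ := (hR y).1 hy1
  obtain ⟨z, hz, hz'⟩ := hy2
  obtain ⟨b, hb, rfl⟩ := (hR z).1 hz
  set g : T := t0⁻¹ * s * t0 with hg
  have hz2 : π s * π (t0 * b * t0⁻¹) * (π s)⁻¹ = π (t0 * a * t0⁻¹) := hz'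
  have h1 : π (a⁻¹ * (g * b * g⁻¹)) = 1 := by
    have h2 : π (g * b * g⁻¹) = π a := by
      have h3 : g * b * g⁻¹ = t0⁻¹ * (s * (t0 * b * t0⁻¹) * s⁻¹) * t0 := by rw [hg]; group
      have h4 : π (s * (t0 * b * t0⁻¹) * s⁻¹) = π (t0 * a * t0⁻¹) := by
        rw [map_mul, map_mul, map_inv]; exact hz2
      rw [h3, map_mul, map_mul, h4, ← map_mul, ← map_mul]
      congr 1
      group
    rw [map_mul, h2, map_inv, inv_mul_cancel]
  have h5 := (hker _).1 h1
  have h6 : ((a⁻¹ * (g * b * g⁻¹) : T) : G) = (a : G)⁻¹ * ((g : G) * b * (g : G)⁻¹) := rfl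
  rw [h6] at h5
  have h7 : (a : G)⁻¹ * ((g : G) * b * (g : G)⁻¹) = 1 := by
    refine eq_one_of_mul_pow P hK hKC ha h5 ?_
    obtain ⟨m, hm⟩ := P.2 ⟨(b : G), hb⟩
    refine ⟨m, ?_⟩
    have hm' : (b : G) ^ p ^ m = 1 := congrArg Subtype.val hm
    rw [mul_inv_cancel_left, conj_pow, hm', mul_one, mul_inv_cancel]
  have h8 : (a : G) = (g : G) * b * (g : G)⁻¹ := by
    rw [inv_mul_eq_one] at h7
    exact h7
  by_cases hgN : (g : G) ∈ Subgroup.normalizer ((P : Subgroup G) : Set G)
  · exfalso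
    apply hx
    have h9 : ∀ c : T, t0 * (g * c * g⁻¹) * t0⁻¹ = s * (t0 * c * t0⁻¹) * s⁻¹ := by
      intro c
      rw [hg]; group
    rw [Subgroup.mem_normalizer_iff]
    intro y
    constructor
    · intro hy
      obtain ⟨c, hc, rfl⟩ := (hR y).1 hy
      refine (hR _).2 ⟨g * c * g⁻¹, (Subgroup.mem_normalizer_iff.1 hgN _).1 hc, ?_⟩
      rw [h9, map_mul, map_mul, map_inv]
    · intro hy
      obtain ⟨c, hc, hc'⟩ := (hR _).1 hy
      refine (hR _).2 ⟨g⁻¹ * c * g, ?_, ?_⟩
      · have h10 := (Subgroup.mem_normalizer_iff.1 (Subgroup.inv_mem _ hgN) (c : G)).1 hc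
        simpa using h10
      · have h11 : t0 * (g⁻¹ * c * g) * t0⁻¹ = s⁻¹ * (t0 * c * t0⁻¹) * s := by
          rw [hg]; group
        rw [h11, map_mul, map_mul, map_inv, hc']
        group
  · have h10 := hTI g hgN
    have h11 : (a : G) ∈ (P : Subgroup G) ⊓ (MulAut.conj (g : G) • (P : Subgroup G)) :=
      ⟨ha, ⟨b, hb, h8.symm⟩⟩
    rw [h10, Subgroup.mem_bot] at h11
    have h12 : a = 1 := Subtype.ext h11
    rw [h12, mul_one, mul_inv_cancel, map_one]

end ti

section frame
variable {G : Type u} [Group G] [Finite G] {p : ℕ} [hp : Fact p.Prime]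

theorem core_not_dvd : ¬ p ∣ Nat.card (pPrimeCore p G) := fun h =>
  hp.out.one_lt.ne' (Nat.Coprime.eq_one_of_dvd (Nat.Coprime.symm (Lib.Cores.pPrimeCore_coprime p)) h)

/-- The normal closure of `P` centralises the subgroups normal in `G` and centralising `P`. -/
theorem comm_normalClosure {P : Subgroup G} {K : Subgroup G} [K.Normal] (hKC : K ≤ Subgroup.centralizer (P : Set G)) :
    ∀ k ∈ K, ∀ e ∈ Subgroup.normalClosure (P : Set G), k * e = e * k := by
  have h1 : Subgroup.normalClosure (P : Set G) ≤ Subgroup.centralizer (K : Set G) := by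
    apply Subgroup.normalClosure_le_normal
    intro x hx
    rw [SetLike.mem_coe, Subgroup.mem_centralizer_iff]
    intro k hk
    exact (Subgroup.mem_centralizer_iff.1 (hKC hk) x hx).symm
  intro k hk e he
  exact Subgroup.mem_centralizer_iff.1 (h1 he) k hk

theorem rowEq_map (P : Sylow p G) (hTI : TIs P) {K : Subgroup G} [hKn : K.Normal] (hK : ¬ p ∣ Nat.card K)
    (hKC : K ≤ Subgroup.centralizer ((P : Subgroup G) : Set G)) {T : Subgroup G} (hPT : (P : Subgroup G) ≤ T)
    (h : Cnt p (T.map (QuotientGroup.mk' K))) : RowEq p (T ⧸ K.subgroupOf T) := by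
  let π : T →* T.map (QuotientGroup.mk' K) := (QuotientGroup.mk' K).subgroupMap T
  have hπ : Function.Surjective π := (QuotientGroup.mk' K).subgroupMap_surjective T
  have hker : ∀ t : T, π t = 1 ↔ (t : G) ∈ K := by
    intro t
    rw [← QuotientGroup.eq_one_iff (N := K)]
    exact ⟨fun h => congrArg Subtype.val h, fun h => Subtype.ext h⟩
  have h1 : RowEq p (T.map (QuotientGroup.mk' K)) :=
    rowEq_of p fun R => h R (isTI_surj P hTI hK hKC hPT π hπ hker R)
  have h2 : π.ker = K.subgroupOf T := by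
    ext t
    rw [MonoidHom.mem_ker, hker, Subgroup.mem_subgroupOf]
  exact h1.congr ((QuotientGroup.quotientMulEquivOfEq h2.symm).trans
    (QuotientGroup.quotientKerEquivOfSurjective π hπ)).symm

/-- **The frame.** -/
theorem rk_of_frame (P : Sylow p G) (hP1 : (P : Subgroup G) ≠ ⊥) (hTI : TIs P)
    (cen : pPrimeCore p G ≤ Subgroup.centralizer ((P : Subgroup G) : Set G))
    (hCH : ∀ x ∈ Subgroup.centralizer (img p P : Set (G ⧸ pPrimeCore p G)), ¬ p ∣ orderOf x → x = 1)
    (S1 : Subgroup (G ⧸ pPrimeCore p G)) [hS1n : S1.Normal]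
    (hS1 : (Subgroup.normalClosure ((P : Subgroup G) : Set G)).map (QuotientGroup.mk' (pPrimeCore p G)) = S1)
    (hcyc : IsCyclic ((G ⧸ pPrimeCore p G) ⧸ S1))
    (hrow : ∀ U : Subgroup (G ⧸ pPrimeCore p G), S1 ≤ U → Cnt p U)
    (hlin : ∀ (θ : pPrimeCore p G → ℂ), IsIrrCharacter (pPrimeCore p G) θ →
      ∀ l : ↥(pPrimeCore p G ⊓ Subgroup.normalClosure ((P : Subgroup G) : Set G)) →* ℂˣ,
      (∀ z : ↥(pPrimeCore p G ⊓ Subgroup.normalClosure ((P : Subgroup G) : Set G)),
        θ ⟨z, z.2.1⟩ = (l z : ℂ) * θ 1) → l ≠ 1 →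
      stab θ ≤ pPrimeCore p G ⊔ Subgroup.normalClosure ((P : Subgroup G) : Set G) ∧
        Nat.card {η : IrrCharacter (Subgroup.normalClosure ((P : Subgroup G) : Set G)) //
          (∀ z : ↥(pPrimeCore p G ⊓ Subgroup.normalClosure ((P : Subgroup G) : Set G)),
            (η : Subgroup.normalClosure ((P : Subgroup G) : Set G) → ℂ) ⟨z, z.2.2⟩ =
              (l z : ℂ) * (η : Subgroup.normalClosure ((P : Subgroup G) : Set G) → ℂ) 1) ∧
          ¬ DZ p (η : Subgroup.normalClosure ((P : Subgroup G) : Set G) → ℂ)} =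
        Nat.card {η : IrrCharacter (Subgroup.normalizer ((P : Subgroup G) : Set G) ⊓
            Subgroup.normalClosure ((P : Subgroup G) : Set G) : Subgroup G) //
          ∀ z : ↥(pPrimeCore p G ⊓ Subgroup.normalClosure ((P : Subgroup G) : Set G)),
            ∀ hz : (z : G) ∈ Subgroup.normalizer ((P : Subgroup G) : Set G) ⊓
              Subgroup.normalClosure ((P : Subgroup G) : Set G),
            (η : (Subgroup.normalizer ((P : Subgroup G) : Set G) ⊓
              Subgroup.normalClosure ((P : Subgroup G) : Set G) : Subgroup G) → ℂ) ⟨z, hz⟩ = (l z : ℂ) *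
              (η : (Subgroup.normalizer ((P : Subgroup G) : Set G) ⊓
                Subgroup.normalClosure ((P : Subgroup G) : Set G) : Subgroup G) → ℂ) 1}) :
    Rk p P := by
  classical
  intro M hM B hB hBP b hb
  have hcount := H608.TI.count hM P hTI hB hBP hb
  suffices h : Nat.card B = Nat.card b by omega
  set K := pPrimeCore p G with hKdef
  haveI : K.Normal := Lib.Cores.pPrimeCore_normal p
  have hK : ¬ p ∣ Nat.card K := core_not_dvd
  have hPE : (P : Subgroup G) ≤ Subgroup.normalClosure ((P : Subgroup G) : Set G) := Subgroup.le_normalClosure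
  have hcomm := comm_normalClosure cen
  refine card_eq_of_rows hM P hP1 hTI K hK ?_ (Subgroup.normalClosure ((P : Subgroup G) : Set G)) hPE hcomm ?_ ?_
    hlin B hBP b hb
  · intro x hx hxo
    rw [← QuotientGroup.eq_one_iff (N := K)]
    refine hCH (x : G ⧸ K) ?_ ?_
    · rw [Subgroup.mem_centralizer_iff]
      rintro _ ⟨y, hy, rfl⟩
      have h1 := Subgroup.mem_centralizer_iff.1 hx y hy
      exact congrArg (QuotientGroup.mk' K) h1
    · intro hd
      exact hxo (hd.trans (orderOf_map_dvd (QuotientGroup.mk' K) x))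
  · let f : G →* (G ⧸ K) ⧸ S1 := (QuotientGroup.mk' S1).comp (QuotientGroup.mk' K)
    have hf : f.ker = K ⊔ Subgroup.normalClosure ((P : Subgroup G) : Set G) := by
      have h1 : f.ker = S1.comap (QuotientGroup.mk' K) := by
        rw [← MonoidHom.comap_ker, QuotientGroup.ker_mk']
      rw [h1, ← hS1, Subgroup.comap_map_eq, QuotientGroup.ker_mk', sup_comm]
    have h1 : IsCyclic (G ⧸ f.ker) :=
      isCyclic_of_injective (QuotientGroup.kerLift f) (QuotientGroup.kerLift_injective f)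
    exact isCyclic_of_surjective (QuotientGroup.quotientMulEquivOfEq hf)
      (QuotientGroup.quotientMulEquivOfEq hf).surjective
  · intro T hT
    refine rowEq_map P hTI hK cen (hPE.trans (le_sup_right.trans hT)) (hrow _ ?_)
    rw [← hS1]
    exact Subgroup.map_mono (le_sup_right.trans hT)

/-- The frame when `O_{p'}(G)` meets the normal closure of `P` trivially. -/
theorem rk_of_disj (P : Sylow p G) (hP1 : (P : Subgroup G) ≠ ⊥) (hTI : TIs P)
    (cen : pPrimeCore p G ≤ Subgroup.centralizer ((P : Subgroup G) : Set G))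
    (hCH : ∀ x ∈ Subgroup.centralizer (img p P : Set (G ⧸ pPrimeCore p G)), ¬ p ∣ orderOf x → x = 1)
    (S1 : Subgroup (G ⧸ pPrimeCore p G)) [hS1n : S1.Normal]
    (hS1 : (Subgroup.normalClosure ((P : Subgroup G) : Set G)).map (QuotientGroup.mk' (pPrimeCore p G)) = S1)
    (hcyc : IsCyclic ((G ⧸ pPrimeCore p G) ⧸ S1))
    (hrow : ∀ U : Subgroup (G ⧸ pPrimeCore p G), S1 ≤ U → Cnt p U)
    (hdisj : pPrimeCore p G ⊓ Subgroup.normalClosure ((P : Subgroup G) : Set G) = ⊥) : Rk p P := by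
  refine rk_of_frame P hP1 hTI cen hCH S1 hS1 hcyc hrow (fun θ _ l _ hl => ?_)
  exfalso
  apply hl
  ext z
  have h1 : z = 1 := Subtype.ext (Subgroup.mem_bot.1 (hdisj ▸ z.2))
  rw [h1, map_one, map_one]

end frame

section sit
variable {G : Type u} [Group G] [Finite G] {p : ℕ} [hp : Fact p.Prime]

theorem ne_bot_of_dvd (P : Sylow p G) {S : Subgroup (G ⧸ pPrimeCore p G)} (h : p ∣ Nat.card S) :
    (P : Subgroup G) ≠ ⊥ :=
  P.ne_bot_of_dvd_card ((h.trans S.card_subgroup_dvd_card).trans (Subgroup.card_quotient_dvd_card _))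

theorem img_ne_bot (P : Sylow p G) (hP1 : (P : Subgroup G) ≠ ⊥) : img p P ≠ ⊥ := by
  intro h
  apply hP1
  haveI : (pPrimeCore p G).Normal := Lib.Cores.pPrimeCore_normal p
  have h1 : (P : Subgroup G) ≤ pPrimeCore p G := by
    have h2 := (Subgroup.map_eq_bot_iff _).1 h
    rwa [QuotientGroup.ker_mk'] at h2
  have h3 := Subgroup.card_dvd_of_le h1
  have h4 : Nat.Coprime (Nat.card (P : Subgroup G)) (Nat.card (pPrimeCore p G)) := by
    rw [show Nat.card (P : Subgroup G) = _ from P.card_eq_multiplicity]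
    exact Nat.Coprime.pow_left _ ((Nat.Prime.coprime_iff_not_dvd hp.out).2 core_not_dvd)
  exact Subgroup.card_eq_one.1 (Nat.Coprime.eq_one_of_dvd h4 h3)

/-- The image of the normal closure of `P` is `S`. -/
theorem normalClosure_eq (P : Sylow p G) {S : Subgroup (G ⧸ pPrimeCore p G)} (h : Sit p P S)
    (hP1 : (P : Subgroup G) ≠ ⊥) (hPS : img p P ≤ S) :
    (Subgroup.normalClosure ((P : Subgroup G) : Set G)).map (QuotientGroup.mk' (pPrimeCore p G)) = S := by
  haveI := h.normal
  haveI := h.simple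
  have hle : (Subgroup.normalClosure ((P : Subgroup G) : Set G)).map (QuotientGroup.mk' (pPrimeCore p G)) ≤ S := by
    rw [Subgroup.map_le_iff_le_comap]
    apply Subgroup.normalClosure_le_normal
    intro x hx
    exact hPS ⟨x, hx, rfl⟩
  haveI hn : ((Subgroup.normalClosure ((P : Subgroup G) : Set G)).map
      (QuotientGroup.mk' (pPrimeCore p G))).Normal :=
    Subgroup.Normal.map Subgroup.normalClosure_normal _ (QuotientGroup.mk'_surjective _)
  rcases (hn.subgroupOf S).eq_bot_or_eq_top with h1 | h1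
  · exfalso
    apply img_ne_bot P hP1
    have h2 := Subgroup.subgroupOf_eq_bot.1 h1
    have h3 : (Subgroup.normalClosure ((P : Subgroup G) : Set G)).map
      (QuotientGroup.mk' (pPrimeCore p G)) = ⊥ := by
      rw [← inf_eq_left.2 hle]
      exact h2.eq_bot
    rw [eq_bot_iff, ← h3]
    exact Subgroup.map_mono Subgroup.le_normalClosure
  · exact le_antisymm hle (Subgroup.subgroupOf_eq_top.1 h1)

theorem perfect_of_simple {S : Type u} [Group S] [IsSimpleGroup S] (h : ¬ IsMulCommutative S) : commutator S = ⊤ := by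
  rcases (inferInstance : (commutator S).Normal).eq_bot_or_eq_top with h1 | h1
  · exfalso
    apply h
    refine ⟨⟨fun a b => ?_⟩⟩
    have h2 : ⁅a, b⁆ ∈ commutator S := Subgroup.commutator_mem_commutator (Subgroup.mem_top a) (Subgroup.mem_top b)
    rw [h1, Subgroup.mem_bot] at h2
    exact commutatorElement_eq_one_iff_mul_comm.1 h2
  · exact h1

/-- The normal closure of `P` is perfect. -/
theorem perfect_normalClosure (P : Sylow p G)
    (cen : pPrimeCore p G ≤ Subgroup.centralizer ((P : Subgroup G) : Set G))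
    {S1 : Subgroup (G ⧸ pPrimeCore p G)}
    (hS1 : (Subgroup.normalClosure ((P : Subgroup G) : Set G)).map (QuotientGroup.mk' (pPrimeCore p G)) = S1)
    (hperf : commutator S1 = ⊤) : commutator (Subgroup.normalClosure ((P : Subgroup G) : Set G)) = ⊤ := by
  set E := Subgroup.normalClosure ((P : Subgroup G) : Set G) with hE
  haveI hKn : (pPrimeCore p G).Normal := Lib.Cores.pPrimeCore_normal p
  haveI hEn : E.Normal := Subgroup.normalClosure_normal
  have h1 : ⁅S1, S1⁆ = S1 := by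
    have h2 := congrArg (Subgroup.map S1.subtype) hperf
    rw [commutator_def, Subgroup.map_commutator, ← MonoidHom.range_eq_map, Subgroup.range_subtype] at h2
    exact h2
  have h3 : (⁅E, E⁆).map (QuotientGroup.mk' (pPrimeCore p G)) = E.map (QuotientGroup.mk' (pPrimeCore p G)) := by
    rw [Subgroup.map_commutator, hS1, h1]
  have hcomm := comm_normalClosure cen
  have hPD : (P : Subgroup G) ≤ ⁅E, E⁆ := by
    intro x hx
    have hxE : x ∈ E := Subgroup.le_normalClosure hx
    have h4 : QuotientGroup.mk' (pPrimeCore p G) x ∈ (⁅E, E⁆).map (QuotientGroup.mk' (pPrimeCore p G)) := by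
      rw [h3]; exact ⟨x, hxE, rfl⟩
    obtain ⟨d, hd, hdx⟩ := h4
    rw [QuotientGroup.mk'_eq_mk'] at hdx
    obtain ⟨k, hk, hkx⟩ := hdx
    have hdE : d ∈ E := Subgroup.commutator_le_right _ _ hd
    have hcdk : Commute d k := (hcomm k hk d hdE).symm
    have hm : x ^ orderOf k ∈ ⁅E, E⁆ := by
      rw [← hkx, hcdk.mul_pow, pow_orderOf_eq_one, mul_one]
      exact Subgroup.pow_mem _ hd _
    have hcop : Nat.Coprime (orderOf x) (orderOf k) := by
      obtain ⟨m, hm⟩ := P.2 ⟨x, hx⟩
      have hm' : x ^ p ^ m = 1 := congrArg Subtype.val hm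
      have h5 : orderOf k ∣ Nat.card (pPrimeCore p G) := by
        have := orderOf_dvd_natCard (⟨k, hk⟩ : pPrimeCore p G)
        rwa [Subgroup.orderOf_mk] at this
      refine Nat.Coprime.coprime_dvd_left (orderOf_dvd_of_pow_eq_one hm') ?_
      refine Nat.Coprime.coprime_dvd_right h5 ?_
      exact Nat.Coprime.pow_left _ ((Nat.Prime.coprime_iff_not_dvd hp.out).2 core_not_dvd)
    obtain ⟨n, hn⟩ := exists_pow_eq_self_of_coprime hcop.symm
    rw [← hn]
    exact Subgroup.pow_mem _ hm n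
  have hED : E ≤ ⁅E, E⁆ := by
    rw [hE]
    exact Subgroup.normalClosure_le_normal hPD
  rw [eq_top_iff]
  rintro ⟨x, hx⟩ -
  have h6 := hED hx
  have h7 : ⁅E, E⁆ = (commutator E).map E.subtype := by
    rw [commutator_def, Subgroup.map_commutator, ← MonoidHom.range_eq_map, Subgroup.range_subtype]
  rw [h7] at h6
  obtain ⟨y, hy, hyx⟩ := h6
  have h8 : y = ⟨x, hx⟩ := Subtype.ext hyx
  exact h8 ▸ hy

/-- The order of `O_{p'}(G) ∩ E` divides the order of the multiplier. -/
theorem card_dvd_of_mult (P : Sylow p G)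
    (cen : pPrimeCore p G ≤ Subgroup.centralizer ((P : Subgroup G) : Set G))
    {S1 : Subgroup (G ⧸ pPrimeCore p G)}
    (hS1 : (Subgroup.normalClosure ((P : Subgroup G) : Set G)).map (QuotientGroup.mk' (pPrimeCore p G)) = S1)
    (hperf : commutator S1 = ⊤) {Y : Type v} [Group Y] (e : S1 ≃* Y) {n : ℕ} (hY : HasCyclicSchurMultiplier Y n) :
    Nat.card ↥(pPrimeCore p G ⊓ Subgroup.normalClosure ((P : Subgroup G) : Set G)) ∣ n := by
  have hEp := perfect_normalClosure P cen hS1 hperf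
  have hcomm := comm_normalClosure cen
  set E := Subgroup.normalClosure ((P : Subgroup G) : Set G) with hE
  haveI hKn : (pPrimeCore p G).Normal := Lib.Cores.pPrimeCore_normal p
  subst hS1
  let π : E →* Y := e.toMonoidHom.comp ((QuotientGroup.mk' (pPrimeCore p G)).subgroupMap E)
  have hπ : Function.Surjective π :=
    e.surjective.comp ((QuotientGroup.mk' (pPrimeCore p G)).subgroupMap_surjective E)
  have hker : ∀ x : E, x ∈ π.ker ↔ (x : G) ∈ pPrimeCore p G := by
    intro x
    rw [MonoidHom.mem_ker, ← QuotientGroup.eq_one_iff (N := pPrimeCore p G)]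
    constructor
    · intro h
      have h1 := e.map_eq_one_iff.1 h
      exact congrArg Subtype.val h1
    · intro h
      exact e.map_eq_one_iff.2 (Subtype.ext h)
  have h1 := H95.StemCover.card_ker_dvd_cyclic hY hEp π hπ (by
    intro x hx
    rw [Subgroup.mem_center_iff]
    intro y
    exact Subtype.ext (hcomm x ((hker x).1 hx) y y.2).symm)
  have h2 : π.ker = (pPrimeCore p G).subgroupOf E := by
    ext x
    rw [hker, Subgroup.mem_subgroupOf]
  rw [h2] at h1
  have h3 : Nat.card ((pPrimeCore p G).subgroupOf E) = Nat.card ↥(pPrimeCore p G ⊓ E) := by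
    rw [← Subgroup.card_map_of_injective (Subgroup.subtype_injective E), Subgroup.subgroupOf_map_subtype]
  rw [← h3]
  exact h1

theorem disj_of_mult (P : Sylow p G)
    (cen : pPrimeCore p G ≤ Subgroup.centralizer ((P : Subgroup G) : Set G))
    {S1 : Subgroup (G ⧸ pPrimeCore p G)}
    (hS1 : (Subgroup.normalClosure ((P : Subgroup G) : Set G)).map (QuotientGroup.mk' (pPrimeCore p G)) = S1)
    (hperf : commutator S1 = ⊤) {Y : Type v} [Group Y] (e : S1 ≃* Y) (hY : HasCyclicSchurMultiplier Y 1) :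
    pPrimeCore p G ⊓ Subgroup.normalClosure ((P : Subgroup G) : Set G) = ⊥ :=
  Subgroup.card_eq_one.1 (Nat.dvd_one.1 (card_dvd_of_mult P cen hS1 hperf e hY))

/-- **The rows with trivial multiplier**, `P ≤ S`. -/
theorem rk_of_sit (P : Sylow p G) {S : Subgroup (G ⧸ pPrimeCore p G)} (h : Sit p P S) (hpS : p ∣ Nat.card S)
    (hPS : img p P ≤ S)
    (hCH : ∀ x ∈ Subgroup.centralizer (img p P : Set (G ⧸ pPrimeCore p G)), ¬ p ∣ orderOf x → x = 1)
    (hcyc : S.index = 1 ∨ S.index.Prime)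
    {Y : Type v} [Group Y] (e : S ≃* Y) (hY : HasCyclicSchurMultiplier Y 1)
    (hrow : ∀ U : Subgroup (G ⧸ pPrimeCore p G), S ≤ U → Cnt p U) : Rk p P := by
  have hP1 := ne_bot_of_dvd P hpS
  haveI := h.normal
  haveI := h.simple
  have hS1 := normalClosure_eq P h hP1 hPS
  refine rk_of_disj P hP1 h.ti h.cen hCH S hS1 ?_ hrow
    (disj_of_mult P h.cen hS1 (perfect_of_simple h.nonab) e hY)
  rcases hcyc with h1 | h1
  · have : Subsingleton ((G ⧸ pPrimeCore p G) ⧸ S) := by
      rw [← Finite.card_le_one_iff_subsingleton, ← Subgroup.index_eq_card, h1]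
    exact isCyclic_of_subsingleton
  · haveI : Fact S.index.Prime := ⟨h1⟩
    exact isCyclic_of_prime_card (p := S.index) S.index_eq_card.symm

end sit

end Cfsg.Agent.H681.TI
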