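import Cfsg.Agent.H681.TI.Cnt
import Cfsg.Agent.CharactersDeep.MaxInduced
import Cfsg.Agent.S0886

/-!
# S4819, Clifford part: reduction to the stabiliser, the extendible case (helper681)
-/

set_option autoImplicit false
set_option linter.style.haveILetI false
set_option linter.unusedSectionVars false

open Cfsg
open scoped Pointwise

namespace Cfsg.Agent.H681.TI

open Cfsg.Agent.H672 Cfsg.Agent.H672.RM Cfsg.Agent.H675.Nd Cfsg.Agent.Characters.Core

universe u v w

section main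
variable {G : Type u} [Group G] [Finite G] {p : ℕ} [hp : Fact p.Prime]

theorem le_nrm {K P : Subgroup G} (hKC : K ≤ Subgroup.centralizer (P : Set G)) :
    K ≤ Subgroup.normalizer (P : Set G) :=
  hKC.trans (Subgroup.centralizer_le_normalizer _)

/-- Reduction to the stabiliser of `θ`. -/
theorem card_eq_of_cond {M : Ideal AlgInt} (hM : IsPModular p M) (P : Sylow p G) (hP1 : (P : Subgroup G) ≠ ⊥)
    (hTI : ∀ g : G, g ∉ Subgroup.normalizer ((P : Subgroup G) : Set G) →
      (P : Subgroup G) ⊓ (MulAut.conj g • (P : Subgroup G)) = ⊥)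
    (K : Subgroup G) [hKn : K.Normal] (hK : ¬ p ∣ Nat.card K)
    (hKC : K ≤ Subgroup.centralizer ((P : Subgroup G) : Set G))
    (hC : ∀ x ∈ Subgroup.centralizer ((P : Subgroup G) : Set G), ¬ p ∣ orderOf x → x ∈ K)
    (hcond : ∀ (θ : K → ℂ) (hθ : IsIrrCharacter K θ),
      cND p (Subgroup.inclusion (le_stab (isIrr_isClassFunction hθ))) θ =
        cAll (Subgroup.inclusion (le_inf (le_nrm hKC) (le_stab (isIrr_isClassFunction hθ)))) θ)
    (B : Set (IrrCharacter G)) (hBP : IsDefectGroup p M B P)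
    (b : Set (IrrCharacter (Subgroup.normalizer ((P : Subgroup G) : Set G))))
    (hb : IsInducedBlock M (Subgroup.normalizer ((P : Subgroup G) : Set G)) b B) :
    Nat.card B = Nat.card b := by
  obtain ⟨θ, hθ, h1, h2⟩ := blocks_aux hM P _ rfl hP1 hTI K hK (le_nrm hKC) hC B hBP b hb
  have hst := le_stab (isIrr_isClassFunction hθ)
  have htop : ∀ U : Subgroup G, U ≤ Subgroup.normalizer (K : Set G) := fun U x _ => by
    rw [Subgroup.normalizer_eq_top]; exact Subgroup.mem_top x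
  have i1 : Inert K (stab θ) ⊤ θ := ⟨le_top, htop _, hθ, by rw [top_inf_eq]⟩
  have i2 : Inert K (Subgroup.normalizer ((P : Subgroup G) : Set G) ⊓ stab θ)
    (Subgroup.normalizer ((P : Subgroup G) : Set G)) θ := ⟨le_nrm hKC, htop _, hθ, rfl⟩
  have e1 : Nat.card B = cND p K.subtype θ := Nat.card_congr (Equiv.subtypeEquivRight h1)
  have e2 : Nat.card b = cAll (Subgroup.inclusion (le_nrm hKC)) θ := Nat.card_congr (Equiv.subtypeEquivRight h2)
  have e3 : cND p K.subtype θ = cND p (Subgroup.inclusion i1.le) θ :=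
    cND_congr p Subgroup.topEquiv.symm (MulEquiv.refl K) _ _ (fun _ => rfl) _ _ (fun _ => rfl)
  rw [e1, e2, e3, cND_clifford i1, cAll_clifford i2]
  exact hcond θ hθ

/-- The case that `θ` extends to `T`. -/
theorem cond_of_ext (P : Sylow p G) (K : Subgroup G) [hKn : K.Normal] (hK : ¬ p ∣ Nat.card K)
    (hKC : K ≤ Subgroup.centralizer ((P : Subgroup G) : Set G)) {θ : K → ℂ} (hθ : IsIrrCharacter K θ)
    {T : Subgroup G} (hKT : K ≤ T) (hPT : (P : Subgroup G) ≤ T)
    {χ : T → ℂ} (hχ : IsIrrCharacter T χ) (hres : ∀ k : K, χ (Subgroup.inclusion hKT k) = θ k)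
    {Q : Type w} [Group Q] [Finite Q] (π : T →* Q) (hπ : Function.Surjective π)
    (hker : ∀ t : T, π t = 1 ↔ (t : G) ∈ K) (hrow : RowEq p Q) :
    cND p (Subgroup.inclusion hKT) θ = cAll (Subgroup.inclusion (le_inf (le_nrm hKC) hKT)) θ := by
  classical
  have htop : ∀ U : Subgroup G, U ≤ Subgroup.normalizer (K : Set G) := fun U x _ => by
    rw [Subgroup.normalizer_eq_top]; exact Subgroup.mem_top x
  set N := Subgroup.normalizer ((P : Subgroup G) : Set G) with hN
  have hKN : K ≤ N := le_nrm hKC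
  let P' : Sylow p T := P.subtype hPT
  have hP' : ∀ t : T, t ∈ (P' : Subgroup T) ↔ (t : G) ∈ (P : Subgroup G) := fun t => Iff.rfl
  let R : Sylow p Q := P'.mapSurjective hπ
  have hR : ∀ y : Q, y ∈ (R : Subgroup Q) ↔ ∃ t : T, (t : G) ∈ (P : Subgroup G) ∧ π t = y := by
    intro y
    constructor
    · rintro ⟨t, ht, rfl⟩
      exact ⟨t, ht, rfl⟩
    · rintro ⟨t, ht, rfl⟩
      exact ⟨t, ht, rfl⟩
  -- elements of `P^t ∩ P K`
  have key : ∀ (u : G), IsOfFinOrder u → (∃ m : ℕ, u ^ p ^ m = 1) → ∀ a ∈ (P : Subgroup G), ∀ c ∈ K, u = a * c → c = 1 := by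
    rintro u - ⟨m, hm⟩ a ha c hc rfl
    have hcomm : Commute a c := (Subgroup.mem_centralizer_iff.1 (hKC hc) a ha)
    rw [hcomm.mul_pow] at hm
    obtain ⟨l, hl⟩ := P.2 ⟨a, ha⟩
    have hl' : a ^ p ^ l = 1 := congrArg Subtype.val hl
    have h3 : (a * c) ^ p ^ (m + l) = 1 := by
      rw [hcomm.mul_pow, pow_add, pow_mul, pow_mul, ← (hcomm.pow_pow _ _).mul_pow, hm, one_pow]
    rw [hcomm.mul_pow, pow_add, mul_comm (p ^ m) (p ^ l), pow_mul a, hl', one_pow, one_mul] at h3
    have h4 : orderOf c ∣ p ^ l * p ^ m := orderOf_dvd_of_pow_eq_one h3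
    have h5 : orderOf c ∣ Nat.card K := by
      have := orderOf_dvd_natCard (⟨c, hc⟩ : K)
      rwa [Subgroup.orderOf_mk] at this
    have h6 : Nat.Coprime (p ^ l * p ^ m) (Nat.card K) := by
      rw [← pow_add]
      exact Nat.Coprime.pow_left _ ((Nat.Prime.coprime_iff_not_dvd hp.out).2 hK)
    exact orderOf_eq_one_iff.1 (Nat.eq_one_of_dvd_coprimes h6 h4 h5)
  have hmem : ∀ t : T, π t ∈ Subgroup.normalizer ((R : Subgroup Q) : Set Q) ↔ (t : G) ∈ N := by
    intro t
    constructor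
    · intro ht
      have hsub : ∀ a ∈ (P : Subgroup G), (t : G) * a * (t : G)⁻¹ ∈ (P : Subgroup G) := by
        intro a ha
        have h1 : π t * π ⟨a, hPT ha⟩ * (π t)⁻¹ ∈ (R : Subgroup Q) :=
          (Subgroup.mem_normalizer_iff.1 ht _).1 ((hR _).2 ⟨_, ha, rfl⟩)
        obtain ⟨s, hs, hs'⟩ := (hR _).1 h1
        have h2 : π (s⁻¹ * (t * ⟨a, hPT ha⟩ * t⁻¹)) = 1 := by
          rw [map_mul, map_inv, hs', map_mul, map_mul, map_inv, inv_mul_cancel]
        rw [hker] at h2
        have h3 : (t : G) * a * (t : G)⁻¹ = (s : G) * ((s : G)⁻¹ * ((t : G) * a * (t : G)⁻¹)) := by group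
        have h4 := key ((t : G) * a * (t : G)⁻¹) (isOfFinOrder_of_finite _) (by
          obtain ⟨m, hm⟩ := P.2 ⟨a, ha⟩
          refine ⟨m, ?_⟩
          have hm' : a ^ p ^ m = 1 := congrArg Subtype.val hm
          rw [conj_pow, hm', mul_one, mul_inv_cancel]) (s : G) hs _ h2 h3
        have h5 : (t : G) * a * (t : G)⁻¹ = (s : G) := by
          rw [h3]
          have h6 : ((s⁻¹ * (t * ⟨a, hPT ha⟩ * t⁻¹) : T) : G) = (s : G)⁻¹ * ((t : G) * a * (t : G)⁻¹) := rfl
          rw [← h6, h4, mul_one]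
        rw [h5]; exact hs
      rw [hN, Subgroup.mem_normalizer_iff]
      have h7 : (P : Subgroup G).map (MulAut.conj (t : G)).toMonoidHom = P := by
        apply Subgroup.eq_of_le_of_card_ge
        · rintro _ ⟨a, ha, rfl⟩
          exact hsub a ha
        · rw [Subgroup.card_map_of_injective (MulAut.conj (t : G)).injective]
      intro a
      refine ⟨fun ha => hsub a ha, fun ha => ?_⟩
      rw [← h7] at ha
      obtain ⟨a', ha', he⟩ := ha
      have h8 : a' = a := (MulAut.conj (t : G)).injective he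
      exact h8 ▸ ha'
    · intro ht
      rw [Subgroup.mem_normalizer_iff]
      intro y
      constructor
      · intro hy
        obtain ⟨s, hs, rfl⟩ := (hR y).1 hy
        exact (hR _).2 ⟨t * s * t⁻¹, (Subgroup.mem_normalizer_iff.1 ht _).1 hs, by simp⟩
      · intro hy
        obtain ⟨s, hs, hs'⟩ := (hR _).1 hy
        refine (hR _).2 ⟨t⁻¹ * s * t, ?_, ?_⟩
        · have h9 := (Subgroup.mem_normalizer_iff.1 (N.inv_mem ht) (s : G)).1 hs
          simpa using h9
        · rw [map_mul, map_mul, map_inv, hs']; group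
  let π' : (N ⊓ T : Subgroup G) →* Subgroup.normalizer ((R : Subgroup Q) : Set Q) :=
    { toFun := fun t => ⟨π ⟨t, t.2.2⟩, (hmem _).2 t.2.1⟩
      map_one' := Subtype.ext (map_one π)
      map_mul' := fun s t => Subtype.ext (map_mul π ⟨s, s.2.2⟩ ⟨t, t.2.2⟩) }
  have hπ' : Function.Surjective π' := by
    rintro ⟨y, hy⟩
    obtain ⟨t, rfl⟩ := hπ y
    exact ⟨⟨t, (hmem t).1 hy, t.2⟩, rfl⟩
  have hker' : ∀ t : (N ⊓ T : Subgroup G), π' t = 1 ↔ (t : G) ∈ K := by
    intro t
    rw [← hker ⟨t, t.2.2⟩]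
    exact ⟨fun h => congrArg Subtype.val h, fun h => Subtype.ext h⟩
  have hχ' : IsIrrCharacter (N ⊓ T : Subgroup G) (χ ∘ Subgroup.inclusion inf_le_right) := by
    refine CharactersDeep.MaxInduced.isIrr_of_comp (Subgroup.inclusion (le_inf hKN hKT))
      (isCharacter_comp _ (isIrr_isCharacter hχ)) ?_
    have h9 : (χ ∘ Subgroup.inclusion inf_le_right) ∘ Subgroup.inclusion (le_inf hKN hKT) = θ := by
      funext k; exact hres k
    rw [h9]
    exact hθ
  rw [cND_of_ext hK hKT (htop T) hθ hχ hres π hπ hker,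
    cAll_of_ext (le_inf hKN hKT) (htop _) hθ hχ' hres π' hπ' hker']
  exact hrow R

end main

end Cfsg.Agent.H681.TI
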