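import Cfsg.Agent.H681.TI.Frame

/-!
# S4819: the exceptional rows, in terms of almost simple groups (helper681)

* `row_of` : `Row p X` from facts on the groups `H` with a normal subgroup `S` of type `X`, `C_H(S) = 1`;
* `disj_of_mult_ext`, `rowSz32_of` : the same for `Sz(32) : 5`, `p = 5`, `P` not in `S`;
* `stab_le_of_inv` : `stab θ ≤ K E` when the elements outside of `K E` invert `K ∩ E`.
-/

set_option autoImplicit false
set_option linter.style.haveILetI false
set_option linter.unusedSectionVars false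

open Cfsg
open scoped Pointwise commutatorElement

namespace Cfsg.Agent.H681.TI

open Cfsg.Agent.H672 Cfsg.Agent.H672.RM Cfsg.Agent.H675.Nd Cfsg.Agent.Characters.Core
open Cfsg.Agent.H723.TI (TIs Rk Sit img Row RowSz32)
open Cfsg.Agent.H34.TI (Cnt IsTI)

universe u v w

section almost
variable {H : Type u} [Group H] [Finite H] {S : Subgroup H}

/-- `S` is normal with trivial centralizer. -/
structure Alm (S : Subgroup H) : Prop where
  normal : S.Normal
  cent : Subgroup.centralizer (S : Set H) = ⊥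

theorem Alm.sub (h : Alm S) {U : Subgroup H} (hSU : S ≤ U) : Alm (S.subgroupOf U) := by
  haveI := h.normal
  refine ⟨inferInstance, ?_⟩
  rw [eq_bot_iff]
  intro x hx
  rw [Subgroup.mem_bot]
  have h1 : (x : H) ∈ Subgroup.centralizer (S : Set H) := by
    rw [Subgroup.mem_centralizer_iff] at hx ⊢
    intro y hy
    exact congrArg Subtype.val (hx ⟨y, hSU hy⟩ (Subgroup.mem_subgroupOf.2 hy))
  rw [h.cent, Subgroup.mem_bot] at h1
  exact Subtype.ext h1

end almost

theorem isCyclic_of_index {H : Type u} [Group H] [Finite H] {S : Subgroup H} [S.Normal]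
    (hcyc : S.index = 1 ∨ S.index.Prime) : IsCyclic (H ⧸ S) := by
  rcases hcyc with h1 | h1
  · have : Subsingleton (H ⧸ S) := by
      rw [← Finite.card_le_one_iff_subsingleton, ← Subgroup.index_eq_card, h1]
    exact isCyclic_of_subsingleton
  · haveI : Fact S.index.Prime := ⟨h1⟩
    exact isCyclic_of_prime_card (p := S.index) S.index_eq_card.symm

/-- **The rows with trivial multiplier.** -/
theorem row_of (p : ℕ) [hp : Fact p.Prime] (X : (S : Type u) → [Group S] → Prop)
    (hX : ∀ (S S' : Type u) [Group S] [Group S'], (S ≃* S') → X S → X S')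
    (hdvd : ∀ (S : Type u) [Group S] [Finite S], X S → p ∣ Nat.card S)
    (hidx : ∀ (H : Type u) [Group H] [Finite H] (S : Subgroup H), Alm S → X S → S.index = 1 ∨ S.index.Prime)
    (hC : ∀ (H : Type u) [Group H] [Finite H] (S : Subgroup H), Alm S → X S → ∀ R : Sylow p H,
      (R : Subgroup H) ≤ S → ∀ x ∈ Subgroup.centralizer ((R : Subgroup H) : Set H), ¬ p ∣ orderOf x → x = 1)
    (hmult : ∀ (S : Type u) [Group S], X S →
      ∃ (Y : Type) (_ : Group Y), Nonempty (S ≃* Y) ∧ HasCyclicSchurMultiplier Y 1)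
    (hcnt : ∀ (H : Type u) [Group H] [Finite H] (S : Subgroup H), Alm S → X S → Cnt p H) : Row.{u} p X := by
  intro G _ _ P S hS hPS hXS
  obtain ⟨Y, hY, ⟨e⟩, hm⟩ := hmult S hXS
  have hA : Alm S := ⟨hS.normal, hS.cent⟩
  haveI := hS.normal
  refine rk_of_sit P hS (hdvd S hXS) hPS ?_ (hidx _ S hA hXS) e hm (fun U hU => ?_)
  · exact hC _ S hA hXS (P.mapSurjective (QuotientGroup.mk'_surjective _)) hPS
  · exact hcnt U (S.subgroupOf U) (hA.sub hU) (hX _ _ (Subgroup.subgroupOfEquivOfLe hU).symm hXS)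

section ext
variable {G : Type u} [Group G] [Finite G] {p : ℕ} [hp : Fact p.Prime]

/-- `O_{p'}(G) ∩ E = 1` when `E` maps onto `H` and `H / S` is cyclic, `S` perfect with trivial multiplier. -/
theorem disj_of_mult_ext (P : Sylow p G)
    (cen : pPrimeCore p G ≤ Subgroup.centralizer ((P : Subgroup G) : Set G))
    (htop : (Subgroup.normalClosure ((P : Subgroup G) : Set G)).map (QuotientGroup.mk' (pPrimeCore p G)) = ⊤)
    (S : Subgroup (G ⧸ pPrimeCore p G)) [hSn : S.Normal] (hcyc : IsCyclic ((G ⧸ pPrimeCore p G) ⧸ S))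
    (hperf : commutator S = ⊤) {Y : Type v} [Group Y] (e : S ≃* Y) (hY : HasCyclicSchurMultiplier Y 1) :
    pPrimeCore p G ⊓ Subgroup.normalClosure ((P : Subgroup G) : Set G) = ⊥ := by
  classical
  have hcomm := comm_normalClosure cen
  set E := Subgroup.normalClosure ((P : Subgroup G) : Set G) with hE
  set K := pPrimeCore p G with hKdef
  haveI hKn : K.Normal := Lib.Cores.pPrimeCore_normal p
  haveI hEn : E.Normal := Subgroup.normalClosure_normal
  set E0 : Subgroup G := E ⊓ S.comap (QuotientGroup.mk' K) with hE0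
  haveI : (S.comap (QuotientGroup.mk' K)).Normal := inferInstance
  haveI hE0n : E0.Normal := inferInstance
  have hKS : K ≤ S.comap (QuotientGroup.mk' K) := by
    intro k hk
    rw [Subgroup.mem_comap, QuotientGroup.mk'_apply, (QuotientGroup.eq_one_iff k).2 hk]
    exact S.one_mem
  have hmap : E0.map (QuotientGroup.mk' K) = S := by
    apply le_antisymm
    · rintro _ ⟨x, hx, rfl⟩
      exact hx.2
    · intro y hy
      have h1 : y ∈ E.map (QuotientGroup.mk' K) := by rw [htop]; exact Subgroup.mem_top y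
      obtain ⟨x, hx, rfl⟩ := h1
      exact ⟨x, ⟨hx, hy⟩, rfl⟩
  set D : Subgroup G := ⁅E0, E0⁆ with hD
  haveI hDn : D.Normal := Subgroup.commutator_normal _ _
  have hDE0 : D ≤ E0 := Subgroup.commutator_le_right _ _
  have hSS : ⁅S, S⁆ = S := by
    have h2 := congrArg (Subgroup.map S.subtype) hperf
    rw [commutator_def, Subgroup.map_commutator, ← MonoidHom.range_eq_map, Subgroup.range_subtype] at h2
    exact h2
  have hDS : D.map (QuotientGroup.mk' K) = S := by
    rw [hD, Subgroup.map_commutator, hmap, hSS]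
  -- `K ∩ E` meets `D` trivially
  have hKD : ∀ z ∈ K, z ∈ D → z = 1 := by
    intro z hz hzD
    let τ0 : E0 →* E0.map (QuotientGroup.mk' K) := (QuotientGroup.mk' K).subgroupMap E0
    let τ : E0 →* Y := (e.toMonoidHom.comp (MulEquiv.subgroupCongr hmap).toMonoidHom).comp τ0
    have hτ : Function.Surjective τ :=
      (e.surjective.comp (MulEquiv.subgroupCongr hmap).surjective).comp
        ((QuotientGroup.mk' K).subgroupMap_surjective E0)
    have hker : ∀ x : E0, x ∈ τ.ker ↔ (x : G) ∈ K := by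
      intro x
      rw [MonoidHom.mem_ker, ← QuotientGroup.eq_one_iff (N := K)]
      constructor
      · intro h
        have h1 := e.map_eq_one_iff.1 h
        exact congrArg Subtype.val h1
      · intro h
        exact e.map_eq_one_iff.2 (Subtype.ext h)
    have h1 := H487.mult_eq_bot_of_trivial hY hτ (by
      intro x hx
      rw [Subgroup.mem_center_iff]
      intro y
      exact Subtype.ext (hcomm x ((hker x).1 hx) y y.2.1).symm)
    have h2 : (⟨z, hDE0 hzD⟩ : E0) ∈ τ.ker ⊓ commutator E0 := by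
      refine ⟨(hker _).2 hz, ?_⟩
      have h7 : D = (commutator E0).map E0.subtype := by
        rw [commutator_def, Subgroup.map_commutator, ← MonoidHom.range_eq_map, Subgroup.range_subtype]
      rw [h7] at hzD
      obtain ⟨y, hy, hyz⟩ := hzD
      have h8 : y = ⟨z, hDE0 (h7 ▸ ⟨y, hy, hyz⟩)⟩ := Subtype.ext hyz
      exact h8 ▸ hy
    have h3 : τ.ker ⊓ commutator E0 = ⊥ := h1
    rw [h3, Subgroup.mem_bot] at h2
    exact congrArg Subtype.val h2
  -- `E / D` is abelian
  let F : G ⧸ D →* (G ⧸ K) ⧸ S := QuotientGroup.lift D ((QuotientGroup.mk' S).comp (QuotientGroup.mk' K)) (by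
    intro x hx
    have h1 := (hDE0 hx).2
    exact (QuotientGroup.eq_one_iff _).2 h1)
  let F' : E.map (QuotientGroup.mk' D) →* (G ⧸ K) ⧸ S := F.comp (Subgroup.subtype _)
  have hF' : F'.ker ≤ Subgroup.center (E.map (QuotientGroup.mk' D)) := by
    rintro ⟨_, x, hx, rfl⟩ hxF
    have h1 : QuotientGroup.mk' K x ∈ S := (QuotientGroup.eq_one_iff _).1 ((MonoidHom.mem_ker).1 hxF)
    rw [← hDS] at h1
    obtain ⟨d, hd, hdx⟩ := h1
    rw [QuotientGroup.mk'_eq_mk'] at hdx
    obtain ⟨k, hk, rfl⟩ := hdx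
    rw [Subgroup.mem_center_iff]
    rintro ⟨_, y, hy, rfl⟩
    apply Subtype.ext
    have h2 : QuotientGroup.mk' D (d * k) = QuotientGroup.mk' D k := by
      rw [map_mul, QuotientGroup.mk'_apply, (QuotientGroup.eq_one_iff d).2 hd, one_mul]
    change QuotientGroup.mk' D y * QuotientGroup.mk' D (d * k) = QuotientGroup.mk' D (d * k) * QuotientGroup.mk' D y
    rw [h2, ← map_mul, ← map_mul, hcomm k hk y hy]
  have hab : ∀ x ∈ E, ∀ y ∈ E, Commute (QuotientGroup.mk' D x) (QuotientGroup.mk' D y) := by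
    intro x hx y hy
    exact congrArg Subtype.val (commutative_of_cyclic_center_quotient F' hF' ⟨_, x, hx, rfl⟩ ⟨_, y, hy, rfl⟩)
  -- the elements of `p`-power order mod `D`
  let q := Nat.card (P : Subgroup G)
  let W : Subgroup G :=
    { carrier := {x | x ∈ E ∧ x ^ q ∈ D}
      one_mem' := ⟨E.one_mem, by rw [one_pow]; exact D.one_mem⟩
      mul_mem' := by
        rintro x y ⟨hx, hx'⟩ ⟨hy, hy'⟩
        refine ⟨E.mul_mem hx hy, ?_⟩
        rw [← QuotientGroup.eq_one_iff (N := D)] at hx' hy' ⊢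
        have h1 := (hab x hx y hy).mul_pow q
        change (QuotientGroup.mk' D) ((x * y) ^ q) = 1
        rw [map_pow, map_mul, h1, ← map_pow, ← map_pow]
        change (((x ^ q : G) : G ⧸ D)) * (((y ^ q : G) : G ⧸ D)) = 1
        rw [hx', hy', one_mul]
      inv_mem' := by
        rintro x ⟨hx, hx'⟩
        exact ⟨E.inv_mem hx, by rw [inv_pow]; exact D.inv_mem hx'⟩ }
  have hWn : W.Normal := ⟨by
    rintro x ⟨hx, hx'⟩ g
    refine ⟨hEn.conj_mem x hx g, ?_⟩
    rw [conj_pow]
    exact hDn.conj_mem _ hx' g⟩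
  have hPW : (P : Subgroup G) ≤ W := by
    intro x hx
    refine ⟨Subgroup.le_normalClosure hx, ?_⟩
    have h1 : x ^ q = 1 := by
      have h2 := pow_card_eq_one' (x := (⟨x, hx⟩ : (P : Subgroup G)))
      exact congrArg Subtype.val h2
    rw [h1]
    exact D.one_mem
  have hEW : E ≤ W := by
    rw [hE]
    exact Subgroup.normalClosure_le_normal hPW
  rw [eq_bot_iff]
  rintro z ⟨hzK, hzE⟩
  rw [Subgroup.mem_bot]
  have h1 := (hEW hzE).2
  have h2 := hKD _ (K.pow_mem hzK q) h1
  have h3 : orderOf z ∣ q := orderOf_dvd_of_pow_eq_one h2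
  have h4 : orderOf z ∣ Nat.card K := by
    have := orderOf_dvd_natCard (⟨z, hzK⟩ : K)
    rwa [Subgroup.orderOf_mk] at this
  have h5 : Nat.Coprime q (Nat.card K) := by
    change Nat.Coprime (Nat.card (P : Subgroup G)) (Nat.card K)
    rw [show Nat.card (P : Subgroup G) = _ from P.card_eq_multiplicity]
    exact Nat.Coprime.pow_left _ ((Nat.Prime.coprime_iff_not_dvd hp.out).2 core_not_dvd)
  exact orderOf_eq_one_iff.1 (Nat.eq_one_of_dvd_coprimes h5 h3 h4)

/-- The normal closure of `P` maps onto `H` when `P` is not in `S` and `S` is of prime index. -/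
theorem normalClosure_eq_top (P : Sylow p G) {S : Subgroup (G ⧸ pPrimeCore p G)} (h : Sit p P S)
    (hPS : ¬ img p P ≤ S) (hidx : S.index.Prime) :
    (Subgroup.normalClosure ((P : Subgroup G) : Set G)).map (QuotientGroup.mk' (pPrimeCore p G)) = ⊤ := by
  haveI := h.normal
  haveI := h.simple
  set S1 := (Subgroup.normalClosure ((P : Subgroup G) : Set G)).map (QuotientGroup.mk' (pPrimeCore p G)) with hS1
  have hP1 : img p P ≤ S1 := Subgroup.map_mono Subgroup.le_normalClosure
  haveI hn : S1.Normal := Subgroup.Normal.map Subgroup.normalClosure_normal _ (QuotientGroup.mk'_surjective _)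
  have hSS1 : S ≤ S1 := by
    rcases (hn.subgroupOf S).eq_bot_or_eq_top with h1 | h1
    · exfalso
      apply hPS
      have h2 := Subgroup.subgroupOf_eq_bot.1 h1
      have h3 : S1 ≤ Subgroup.centralizer (S : Set (G ⧸ pPrimeCore p G)) := by
        intro x hx
        rw [Subgroup.mem_centralizer_iff]
        intro y hy
        exact (Subgroup.commute_of_normal_of_disjoint S1 S inferInstance inferInstance h2 x y hx hy).symm.eq
      rw [h.cent] at h3
      exact (hP1.trans h3).trans bot_le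
    · exact Subgroup.subgroupOf_eq_top.1 h1
  have h4 := Subgroup.relIndex_mul_index hSS1
  have h5 : S.relIndex S1 ≠ 1 := by
    intro h6
    rw [Subgroup.relIndex_eq_one] at h6
    exact hPS (hP1.trans h6)
  have h6 : S.relIndex S1 = S.index :=
    (hidx.eq_one_or_self_of_dvd _ ⟨_, h4.symm⟩).resolve_left h5
  rw [h6] at h4
  have h7 : S1.index = 1 := by
    have h8 : S.index ≠ 0 := hidx.ne_zero
    exact Nat.eq_of_mul_eq_mul_left (Nat.pos_of_ne_zero h8) (by rw [h4, mul_one])
  exact Subgroup.index_eq_one.1 h7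

end ext

/-- **The row `Sz(32) : 5`.** -/
theorem rowSz32_of
    (hidx : ∀ (H : Type u) [Group H] [Finite H] (S : Subgroup H), Alm S →
      (∃ (F : Type) (_ : Field F) (_ : Fintype F), Fintype.card F = 32 ∧ Nonempty (S ≃* ↥(Lie.Sz F 8))) →
      S.index = 1 ∨ S.index = 5)
    (hC : ∀ (H : Type u) [Group H] [Finite H] (S : Subgroup H), Alm S →
      (∃ (F : Type) (_ : Field F) (_ : Fintype F), Fintype.card F = 32 ∧ Nonempty (S ≃* ↥(Lie.Sz F 8))) →
      S.index = 5 → ∀ R : Sylow 5 H, ∀ x ∈ Subgroup.centralizer ((R : Subgroup H) : Set H), ¬ 5 ∣ orderOf x → x = 1)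
    (hmult : ∀ (F : Type) [Field F] [Fintype F], Fintype.card F = 32 → HasCyclicSchurMultiplier ↥(Lie.Sz F 8) 1)
    (hcnt : ∀ (H : Type u) [Group H] [Finite H] (S : Subgroup H), Alm S →
      (∃ (F : Type) (_ : Field F) (_ : Fintype F), Fintype.card F = 32 ∧ Nonempty (S ≃* ↥(Lie.Sz F 8))) →
      S.index = 5 → Cnt 5 H) : RowSz32.{u} := by
  intro G _ _ P S hS hPS hXS
  haveI : Fact (Nat.Prime 5) := ⟨by norm_num⟩
  haveI := hS.normal
  haveI := hS.simple
  have hA : Alm S := ⟨hS.normal, hS.cent⟩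
  have h5 : S.index = 5 := by
    rcases hidx _ S hA hXS with h1 | h1
    · exfalso
      apply hPS
      rw [Subgroup.index_eq_one.1 h1]
      exact le_top
    · exact h1
  have htop := normalClosure_eq_top P hS hPS (by rw [h5]; norm_num)
  have hcyc : IsCyclic ((G ⧸ pPrimeCore 5 G) ⧸ S) := isCyclic_of_index (Or.inr (by rw [h5]; norm_num))
  have hP1 : (P : Subgroup G) ≠ ⊥ := by
    intro h1
    apply hPS
    unfold img
    rw [h1, Subgroup.map_bot]
    exact bot_le
  obtain ⟨F, hF, hF', hF32, ⟨e⟩⟩ := hXS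
  refine rk_of_disj P hP1 hS.ti hS.cen ?_ ⊤ htop ?_ (fun U hU => ?_)
    (disj_of_mult_ext P hS.cen htop S hcyc (perfect_of_simple hS.nonab) e (hmult F hF32))
  · exact hC _ S hA ⟨F, hF, hF', hF32, ⟨e⟩⟩ h5 (P.mapSurjective (QuotientGroup.mk'_surjective _))
  · exact isCyclic_of_index (Or.inl Subgroup.index_top)
  · have hSU : S ≤ U := le_top.trans hU
    have hUt : U = ⊤ := top_le_iff.1 hU
    refine hcnt U (S.subgroupOf U) (hA.sub hSU) ⟨F, hF, hF', hF32, ⟨(Subgroup.subgroupOfEquivOfLe hSU).trans e⟩⟩ ?_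
    rw [hUt]
    change (S.relIndex ⊤) = 5
    rw [Subgroup.relIndex_top_right, h5]

section inv
variable {G : Type u} [Group G] [Finite G]

/-- The stabiliser of `θ` when the elements outside of `L` invert the central subgroup. -/
theorem stab_le_of_inv {K E L : Subgroup G} [K.Normal] (hodd : Odd (Nat.card ↥(K ⊓ E)))
    (hinv : ∀ x : G, x ∉ L → ∀ z ∈ K ⊓ E, x * z * x⁻¹ = z⁻¹) {θ : K → ℂ} (hθ : IsIrrCharacter K θ)
    (l : ↥(K ⊓ E) →* ℂˣ) (hl : ∀ z : ↥(K ⊓ E), θ ⟨z, z.2.1⟩ = (l z : ℂ) * θ 1) (hl1 : l ≠ 1) : stab θ ≤ L := by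
  intro x hx
  by_contra hxL
  apply hl1
  have hθ0 := isIrr_apply_one_ne_zero hθ
  have h1 : ∀ z : ↥(K ⊓ E), l z⁻¹ = l z := by
    intro z
    obtain ⟨hxn, h2⟩ := mem_stab.1 hx
    have h3 := tw_apply' hxn θ ⟨z, z.2.1⟩ ⟨(z : G)⁻¹, K.inv_mem z.2.1⟩ (hinv x hxL z z.2).symm
    rw [h2] at h3
    have h4 := hl z⁻¹
    have h5 := hl z
    have h6 : (⟨((z⁻¹ : ↥(K ⊓ E)) : G), (z⁻¹ : ↥(K ⊓ E)).2.1⟩ : K) = ⟨(z : G)⁻¹, K.inv_mem z.2.1⟩ := rfl
    rw [h6, ← h3, h5] at h4
    exact Units.ext (mul_right_cancel₀ hθ0 h4).symm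
  ext z
  congr 1
  rw [MonoidHom.one_apply]
  have h2 : l z * l z = 1 := by
    calc l z * l z = l z⁻¹ * l z := by rw [h1]
      _ = 1 := by rw [← map_mul, inv_mul_cancel, map_one]
  have h3 : (l z) ^ 2 = 1 := by rw [sq]; exact h2
  have h4 : (l z) ^ Nat.card ↥(K ⊓ E) = 1 := by
    rw [← map_pow, pow_card_eq_one', map_one]
  have h5 : orderOf (l z) ∣ 2 := orderOf_dvd_of_pow_eq_one h3
  have h6 : orderOf (l z) ∣ Nat.card ↥(K ⊓ E) := orderOf_dvd_of_pow_eq_one h4
  exact orderOf_eq_one_iff.1 (Nat.eq_one_of_dvd_coprimes hodd.coprime_two_left h5 h6)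

end inv

end Cfsg.Agent.H681.TI
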