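import Cfsg.Agent.H681.TI.Frame
import Cfsg.Agent.CharactersDeep.ElemExt
import Cfsg.Prelude.Def_Sporadic

/-!
# S4819, the row `McL`: the characters of `N_E(R)`, `E = 3.McL`, over a character of the centre (helper681)

* `exists_linear` : `Z` central of order `q`, `q³` does not divide `|N|`: the characters of `Z` extend to `N` (transfer);
* `card_over_lin` : the number of the characters of `T` over `l` is the class number of `T / Z` when `l` extends;
* `hN_of` : the input `hN` of `rowMcL_of` from the class number of the normalizer in `McL`.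
-/

set_option autoImplicit false
set_option linter.style.haveILetI false
set_option linter.unusedSectionVars false

open Cfsg
open scoped Pointwise

namespace Cfsg.Agent.H681.TI

open Cfsg.Agent.H672 Cfsg.Agent.H672.RM Cfsg.Agent.H675.Nd Cfsg.Agent.Characters.Core

universe u v w

section linear
variable {N : Type u} [Group N] [Finite N] {q : ℕ} [hq : Fact q.Prime]

theorem comm_of_card {Q : Type v} [Group Q] [Finite Q] {k : ℕ} (hk : k ≤ 2) (h : Nat.card Q = q ^ k) :
    ∀ a b : Q, a * b = b * a := by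
  have h1 : k = 0 ∨ k = 1 ∨ k = 2 := by omega
  rcases h1 with rfl | rfl | rfl
  · have : Subsingleton Q := by
      rw [← Finite.card_le_one_iff_subsingleton, h, pow_zero]
    intro a b
    exact Subsingleton.elim _ _
  · rw [pow_one] at h
    have : IsCyclic Q := isCyclic_of_prime_card h
    obtain ⟨g, hg⟩ := IsCyclic.exists_generator (α := Q)
    intro a b
    obtain ⟨i, rfl⟩ := Subgroup.mem_zpowers_iff.1 (hg a)
    obtain ⟨j, rfl⟩ := Subgroup.mem_zpowers_iff.1 (hg b)
    rw [← zpow_add, ← zpow_add, add_comm]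
  · exact (IsPGroup.isMulCommutative_of_card_eq_prime_sq h).is_comm.comm

/-- A linear character of a central subgroup of order `q` extends when the Sylow `q`-subgroups are abelian. -/
theorem exists_linear {Z : Subgroup N} (hZ : Z ≤ Subgroup.center N) (hc : Nat.card Z = q)
    (h : ¬ q ^ 3 ∣ Nat.card N) (l : Z →* ℂˣ) : ∃ μ : N →* ℂˣ, ∀ z : Z, μ z = l z := by
  classical
  haveI hZn : Z.Normal := ⟨fun z hz g => by
    rw [Subgroup.mem_center_iff.1 (hZ hz) g, mul_inv_cancel_right]; exact hz⟩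
  obtain ⟨Q⟩ : Nonempty (Sylow q N) := inferInstance
  have hk : (Nat.card N).factorization q ≤ 2 := by
    by_contra hcon
    apply h
    have h1 : q ^ (Nat.card N).factorization q ∣ Nat.card N := Nat.ordProj_dvd _ _
    exact (pow_dvd_pow q (by omega)).trans h1
  have hcomm := comm_of_card (Q := (Q : Subgroup N)) hk Q.card_eq_multiplicity
  have hZQ : Z ≤ (Q : Subgroup N) :=
    (Lib.Cores.le_pCore hZn (IsPGroup.of_card (n := 1) (by rw [pow_one]; exact hc))).trans
      (Lib.Cores.pCore_le_sylow Q)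
  have hm : Nat.Coprime (Q : Subgroup N).index q := by
    rw [Nat.coprime_comm, Nat.Prime.coprime_iff_not_dvd hq.out]
    exact Q.not_dvd_index
  obtain ⟨a, ha⟩ : ∃ a : ℕ, (Q : Subgroup N).index * a ≡ 1 [MOD q] := by
    obtain ⟨a, ha⟩ := Nat.exists_mul_mod_eq_one_of_coprime hm hq.out.one_lt
    exact ⟨a, by rw [Nat.ModEq, ha.2, Nat.mod_eq_of_lt hq.out.one_lt]⟩
  obtain ⟨β, hβ⟩ := CharactersDeep.ElemExt.exists_ext_of_injective hcomm (Subgroup.inclusion hZQ)
    (Subgroup.inclusion_injective hZQ) (l ^ a)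
  refine ⟨MonoidHom.transfer β, fun z => ?_⟩
  rw [MonoidHom.transfer_eq_pow β (z : N) (fun k g0 _ => by
    have h1 : (z : N) ^ k ∈ Subgroup.center N := Subgroup.pow_mem _ (hZ z.2) k
    rw [mul_assoc, ← Subgroup.mem_center_iff.1 h1 g0, inv_mul_cancel_left])]
  have h2 : (⟨(z : N) ^ (Q : Subgroup N).index, (Subgroup.pow_mem _ (hZQ z.2) _)⟩ : (Q : Subgroup N)) =
      Subgroup.inclusion hZQ (z ^ (Q : Subgroup N).index) := rfl
  rw [h2, hβ, MonoidHom.pow_apply, map_pow, ← pow_mul]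
  have h3 : (l z) ^ q = 1 := by
    rw [← map_pow, ← hc, pow_card_eq_one', map_one]
  rw [← pow_mod_orderOf]
  have h4 : orderOf (l z) ∣ q := orderOf_dvd_of_pow_eq_one h3
  have h5 : (Q : Subgroup N).index * a ≡ 1 [MOD orderOf (l z)] := ha.of_dvd h4
  rw [h5, pow_mod_orderOf, pow_one]

end linear

section ovr
variable {E : Type u} [Group E] [Finite E] {Z T : Subgroup E}

/-- Characters over a linear character of a central subgroup. -/
theorem over_lin_iff (hZT : Z ≤ T) (hZ : Z ≤ Subgroup.center E) (l : Z →* ℂˣ) {η : T → ℂ} (hη : IsIrrCharacter T η) :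
    Over (Subgroup.inclusion hZT) η (lf l) ↔ ∀ z : Z, η ⟨z, hZT z.2⟩ = (l z : ℂ) * η 1 := by
  classical
  letI := Fintype.ofFinite Z
  obtain ⟨c, hc⟩ := H622.Over.exists_hom (N := Z.subgroupOf T) (by
    intro z hz
    rw [Subgroup.mem_center_iff]
    intro k
    exact Subtype.ext (Subgroup.mem_center_iff.1 (hZ (Subgroup.mem_subgroupOf.1 hz)) k)) hη
  let c' : Z →* ℂˣ := c.comp (Subgroup.subgroupOfEquivOfLe hZT).symm.toMonoidHom
  have h1 : ∀ z : Z, η ⟨z, hZT z.2⟩ = (c' z : ℂ) * η 1 := by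
    intro z
    have h2 := hc 1 ⟨⟨z, hZT z.2⟩, Subgroup.mem_subgroupOf.2 z.2⟩
    rw [one_mul, mul_comm] at h2
    exact h2
  have h3 : η ∘ Subgroup.inclusion hZT = (η 1) • lf c' := by
    funext z
    rw [Pi.smul_apply, smul_eq_mul, mul_comm]
    exact h1 z
  have h0 := isIrr_apply_one_ne_zero hη
  rw [over_iff, h3, classInner_smul_left]
  constructor
  · intro h
    by_cases he : lf c' = lf l
    · intro z
      rw [h1]
      congr 1
      exact congrFun he z
    · exfalso
      apply h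
      rw [classInner_irr_ne (isIrr_lf c') (isIrr_lf l) he, mul_zero]
  · intro h
    have he : lf c' = lf l := by
      funext z
      have h4 := h z
      rw [h1] at h4
      exact mul_right_cancel₀ h0 h4
    rw [he, classInner_irr_self (isIrr_lf l), mul_one]
    exact h0

theorem card_over_lin (hZT : Z ≤ T) (hZ : Z ≤ Subgroup.center E) (l : Z →* ℂˣ) (μ : T →* ℂˣ)
    (hμ : ∀ z : Z, μ (Subgroup.inclusion hZT z) = l z) {Q : Type w} [Group Q] [Finite Q] (π : T →* Q)
    (hπ : Function.Surjective π) (hker : ∀ t : T, π t = 1 ↔ (t : E) ∈ Z) :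
    Nat.card {η : IrrCharacter T // ∀ z : Z, ∀ hz : (z : E) ∈ T, (η : T → ℂ) ⟨z, hz⟩ = (l z : ℂ) * (η : T → ℂ) 1} =
      Nat.card (ConjClasses Q) := by
  have hT : T ≤ Subgroup.normalizer (Z : Set E) := by
    intro t _
    rw [Subgroup.mem_normalizer_iff]
    have hn : ∀ g z : E, z ∈ Z → g * z * g⁻¹ ∈ Z := fun g z hz => by
      rw [Subgroup.mem_center_iff.1 (hZ hz) g, mul_inv_cancel_right]; exact hz
    intro z
    refine ⟨fun hz => hn t z hz, fun hz => ?_⟩
    have h1 := hn t⁻¹ _ hz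
    have h2 : t⁻¹ * (t * z * t⁻¹) * t⁻¹⁻¹ = z := by group
    rwa [h2] at h1
  rw [← cAll_of_ext hZT hT (isIrr_lf l) (isIrr_lf μ) (fun z => congrArg Units.val (hμ z)) π hπ hker]
  refine Nat.card_congr (Equiv.subtypeEquivRight fun η => ?_)
  rw [over_lin_iff hZT hZ l η.2]
  exact ⟨fun h z => h z _, fun h z _ => h z⟩

end ovr

/-- **The input `hN` of `rowMcL_of`.** -/
theorem hN_of (m : ℕ) (hloc : ∀ (X : Type u) [Group X] [Finite X], Spor.IsoMcL X → ∀ R : Sylow 5 X, H723.TI.TIs R →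
      Nat.card (ConjClasses (Subgroup.normalizer ((R : Subgroup X) : Set X))) = m ∧
      ¬ 9 ∣ Nat.card (Subgroup.normalizer ((R : Subgroup X) : Set X)))
    (E : Type u) [Group E] [Finite E] (Z : Subgroup E) [hZn : Z.Normal] (hZ : Z ≤ Subgroup.center E)
    (hc : Nat.card Z = 3) (hiso : Spor.IsoMcL (E ⧸ Z)) (l : Z →* ℂˣ) (R : Sylow 5 E) (hR : H723.TI.TIs R) :
    Nat.card {η : IrrCharacter (Subgroup.normalizer ((R : Subgroup E) : Set E)) //
      ∀ z : Z, ∀ hz : (z : E) ∈ Subgroup.normalizer ((R : Subgroup E) : Set E),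
        (η : Subgroup.normalizer ((R : Subgroup E) : Set E) → ℂ) ⟨z, hz⟩ = (l z : ℂ) *
          (η : Subgroup.normalizer ((R : Subgroup E) : Set E) → ℂ) 1} = m := by
  classical
  haveI : Fact (Nat.Prime 5) := ⟨by norm_num⟩
  haveI : Fact (Nat.Prime 3) := ⟨by norm_num⟩
  set T := Subgroup.normalizer ((R : Subgroup E) : Set E) with hT
  have hZT : Z ≤ T := by
    intro z hz
    rw [hT, Subgroup.mem_normalizer_iff]
    intro y
    rw [← Subgroup.mem_center_iff.1 (hZ hz) y, mul_inv_cancel_right]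
  have hZC : Z ≤ Subgroup.centralizer ((R : Subgroup E) : Set E) := by
    intro z hz
    rw [Subgroup.mem_centralizer_iff]
    intro y _
    exact Subgroup.mem_center_iff.1 (hZ hz) y
  have h5 : ¬ 5 ∣ Nat.card Z := by rw [hc]; norm_num
  let R' : Sylow 5 (E ⧸ Z) := R.mapSurjective (QuotientGroup.mk'_surjective Z)
  have hR' : ∀ y : E ⧸ Z, y ∈ (R' : Subgroup (E ⧸ Z)) ↔ ∃ a ∈ (R : Subgroup E), QuotientGroup.mk' Z a = y :=
    fun y => Iff.rfl
  have hmem : ∀ t : E, QuotientGroup.mk' Z t ∈ Subgroup.normalizer ((R' : Subgroup (E ⧸ Z)) : Set (E ⧸ Z)) ↔ t ∈ T := by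
    intro t
    constructor
    · intro ht
      have hsub : ∀ a ∈ (R : Subgroup E), t * a * t⁻¹ ∈ (R : Subgroup E) := by
        intro a ha
        have h1 := (Subgroup.mem_normalizer_iff.1 ht _).1 ((hR' _).2 ⟨a, ha, rfl⟩)
        obtain ⟨s, hs, hs'⟩ := (hR' _).1 h1
        rw [← map_inv, ← map_mul, ← map_mul, QuotientGroup.mk'_eq_mk'] at hs'
        obtain ⟨c, hcZ, hcs⟩ := hs'
        have h2 := eq_one_of_mul_pow R h5 hZC hs hcZ (by
          obtain ⟨k, hk⟩ := R.2 ⟨a, ha⟩
          refine ⟨k, ?_⟩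
          have hk' : a ^ 5 ^ k = 1 := congrArg Subtype.val hk
          rw [hcs, conj_pow, hk', mul_one, mul_inv_cancel])
        rw [← hcs, h2, mul_one]
        exact hs
      have h7 : (R : Subgroup E).map (MulAut.conj t).toMonoidHom = R := by
        apply Subgroup.eq_of_le_of_card_ge
        · rintro _ ⟨a, ha, rfl⟩
          exact hsub a ha
        · rw [Subgroup.card_map_of_injective (MulAut.conj t).injective]
      rw [hT, Subgroup.mem_normalizer_iff]
      intro a
      refine ⟨fun ha => hsub a ha, fun ha => ?_⟩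
      rw [← h7] at ha
      obtain ⟨a', ha', he⟩ := ha
      have h8 : a' = a := (MulAut.conj t).injective he
      exact h8 ▸ ha'
    · intro ht
      rw [Subgroup.mem_normalizer_iff]
      intro y
      constructor
      · intro hy
        obtain ⟨s, hs, rfl⟩ := (hR' y).1 hy
        exact (hR' _).2 ⟨t * s * t⁻¹, (Subgroup.mem_normalizer_iff.1 ht _).1 hs, by simp⟩
      · intro hy
        obtain ⟨s, hs, hs'⟩ := (hR' _).1 hy
        refine (hR' _).2 ⟨t⁻¹ * s * t, ?_, ?_⟩
        · have h9 := (Subgroup.mem_normalizer_iff.1 (T.inv_mem ht) s).1 hs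
          simpa using h9
        · rw [map_mul, map_mul, map_inv, hs']; group
  have hTI : H723.TI.TIs R' := by
    intro g' hg'
    obtain ⟨g, rfl⟩ := QuotientGroup.mk'_surjective Z g'
    have h1 := hR g (fun e => hg' ((hmem g).2 e))
    rw [Subgroup.eq_bot_iff_forall]
    intro x hx
    obtain ⟨hx1, hx2⟩ := Subgroup.mem_inf.1 hx
    rw [Subgroup.mem_pointwise_smul_iff_inv_smul_mem] at hx2
    obtain ⟨a, ha, rfl⟩ := (hR' x).1 hx1
    obtain ⟨b, hb, hb'⟩ := (hR' _).1 hx2
    have hb2 : QuotientGroup.mk' Z a = QuotientGroup.mk' Z (g * b * g⁻¹) := by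
      rw [map_mul, map_mul, map_inv, hb', MulAut.smul_def, MulAut.conj_inv_apply]
      group
    rw [QuotientGroup.mk'_eq_mk'] at hb2
    obtain ⟨c, hcZ, hcs⟩ := hb2
    have h2 := eq_one_of_mul_pow R h5 hZC ha hcZ (by
      obtain ⟨k, hk⟩ := R.2 ⟨b, hb⟩
      refine ⟨k, ?_⟩
      have hk' : b ^ 5 ^ k = 1 := congrArg Subtype.val hk
      rw [hcs, conj_pow, hk', mul_one, mul_inv_cancel])
    rw [h2, mul_one] at hcs
    have h3 : a ∈ (R : Subgroup E) ⊓ (MulAut.conj g • (R : Subgroup E)) := by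
      refine Subgroup.mem_inf.2 ⟨ha, ?_⟩
      rw [Subgroup.mem_pointwise_smul_iff_inv_smul_mem, MulAut.smul_def, MulAut.conj_inv_apply, hcs]
      have h4 : g⁻¹ * (g * b * g⁻¹) * g = b := by group
      rw [h4]
      exact hb
    rw [h1, Subgroup.mem_bot] at h3
    rw [h3, map_one]
  obtain ⟨hcl, h9⟩ := hloc (E ⧸ Z) hiso R' hTI
  let π : T →* Subgroup.normalizer ((R' : Subgroup (E ⧸ Z)) : Set (E ⧸ Z)) :=
    { toFun := fun t => ⟨QuotientGroup.mk' Z t, (hmem _).2 t.2⟩
      map_one' := Subtype.ext (map_one _)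
      map_mul' := fun s t => Subtype.ext (map_mul _ _ _) }
  have hπ : Function.Surjective π := by
    rintro ⟨y, hy⟩
    obtain ⟨t, rfl⟩ := QuotientGroup.mk'_surjective Z y
    exact ⟨⟨t, (hmem t).1 hy⟩, rfl⟩
  have hker : ∀ t : T, π t = 1 ↔ (t : E) ∈ Z := by
    intro t
    rw [← QuotientGroup.eq_one_iff (N := Z)]
    exact ⟨fun h => congrArg Subtype.val h, fun h => Subtype.ext h⟩
  have hcardT : Nat.card T = 3 * Nat.card (Subgroup.normalizer ((R' : Subgroup (E ⧸ Z)) : Set (E ⧸ Z))) := by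
    have h1 := π.ker.card_mul_index
    rw [Subgroup.index_ker, MonoidHom.range_eq_top.2 hπ, Subgroup.card_top] at h1
    rw [← h1]
    congr 1
    have h2 : π.ker = Z.subgroupOf T := by
      ext t
      rw [MonoidHom.mem_ker, hker, Subgroup.mem_subgroupOf]
    rw [h2, Nat.card_congr (Subgroup.subgroupOfEquivOfLe hZT).toEquiv, hc]
  have h27 : ¬ 3 ^ 3 ∣ Nat.card T := by
    rw [hcardT, pow_succ' 3 2]
    intro h
    exact h9 (Nat.dvd_of_mul_dvd_mul_left (by norm_num) h)
  obtain ⟨μ, hμ⟩ := exists_linear (N := T) (Z := Z.subgroupOf T) (q := 3) (by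
    intro z hz
    rw [Subgroup.mem_center_iff]
    intro k
    exact Subtype.ext (Subgroup.mem_center_iff.1 (hZ (Subgroup.mem_subgroupOf.1 hz)) k))
    (by rw [Nat.card_congr (Subgroup.subgroupOfEquivOfLe hZT).toEquiv, hc]) h27
    (l.comp (Subgroup.subgroupOfEquivOfLe hZT).toMonoidHom)
  rw [← hcl]
  exact card_over_lin hZT hZ l μ (fun z => hμ ⟨Subgroup.inclusion hZT z, Subgroup.mem_subgroupOf.2 z.2⟩) π hπ hker

end Cfsg.Agent.H681.TI
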