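import Cfsg.Agent.H58.McLCover
import Cfsg.Agent.H95.StemCover
import Cfsg.Agent.S2047
import Cfsg.Agent.S2073

/-!
# The outer automorphisms of `3.McL` invert the centre (helper681)

* `exists_three_inv` : the cover inside the Lyons group, with an automorphism inverting the centre;
* `hinv` : `E` perfect, `Z ≤ Z(E)` of order three, `E / Z = McL`: an automorphism of `E` trivial on `Z` is inner.
-/

set_option autoImplicit false

open scoped commutatorElement

namespace Cfsg.Agent.H681.TI.McLCov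

open Subgroup Equiv Cfsg.Agent.TypeM.OutLyFin Cfsg.Agent.TypeM Cfsg.Agent.H51.Mult
open Cfsg.Agent.SporRec.TwoAn Cfsg.Agent.TypeM.Two Cfsg.Agent.TypeM.OuterMcL Cfsg.Agent.TypeM.McLFromLy

/-- an even permutation inverting a three-cycle -/
theorem exists_even {τ : Perm (Fin 11)} (h3 : τ ^ 3 = 1) (hs : τ.support.card = 3) :
    ∃ σ ∈ alternatingGroup (Fin 11), σ * τ * σ⁻¹ = τ⁻¹ := by
  classical
  obtain ⟨a, ha⟩ : ∃ a, τ a ≠ a := by
    by_contra hcon
    push Not at hcon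
    have : τ = 1 := Perm.ext hcon
    rw [this] at hs
    simp at hs
  have hc : 1 < (τ.supportᶜ).card := by
    rw [Finset.card_compl, hs, Fintype.card_fin]; norm_num
  obtain ⟨c, hc1, d, hd1, hcd⟩ := Finset.one_lt_card.1 hc
  rw [Finset.mem_compl, Perm.mem_support, not_not] at hc1 hd1
  have h1 := OutLy.swap_conj h3 hs ha
  have h2 : swap c d * τ * (swap c d)⁻¹ = τ := by
    rw [mul_inv_eq_iff_eq_mul]
    have h4 := Equiv.mul_swap_eq_swap_mul τ c d
    rw [hc1, hd1] at h4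
    exact h4.symm
  refine ⟨swap a (τ a) * swap c d, ?_, ?_⟩
  · rw [Perm.mem_alternatingGroup, Perm.sign_mul, Perm.sign_swap ha.symm, Perm.sign_swap hcd]
    rfl
  · rw [mul_inv_rev]
    calc swap a (τ a) * swap c d * τ * ((swap c d)⁻¹ * (swap a (τ a))⁻¹)
        = swap a (τ a) * (swap c d * τ * (swap c d)⁻¹) * (swap a (τ a))⁻¹ := by group
      _ = _ := by rw [h2, h1]

/-- an element inverting `x` -/
theorem exists_inverting {G : Type*} [Group G] (L : MT 11 G) {x : G} (hx : orderOf x = 3) (htx : L.t * x = x * L.t)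
    (hs : (L.K.π (xc htx)).support.card = 3) : ∃ g : G, g * x * g⁻¹ = x⁻¹ := by
  have hx3 : (xc htx) ^ 3 = 1 := xc_cube hx htx
  have hτ3 : (L.K.π (xc htx)) ^ 3 = 1 := by rw [← map_pow, hx3, map_one]
  obtain ⟨σ, hσ, hσ'⟩ := exists_even hτ3 hs
  obtain ⟨g1, hg1⟩ := L.K.exists_lift hσ
  have h1 : L.K.π (g1 * xc htx * g1⁻¹) = L.K.π (xc htx)⁻¹ := by
    rw [map_mul, map_mul, map_inv, map_inv, hg1, hσ']
  have h2 := L.K.odd_lift_unique (n := 3) (by decide) (by rw [conj_pow, hx3, mul_one, mul_inv_cancel])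
    (by rw [inv_pow, hx3, inv_one]) h1
  exact ⟨g1, congrArg Subtype.val h2⟩

/-- the threefold cover with an automorphism inverting the centre -/
theorem exists_three_inv : ∃ (L : Type) (_ : Group L) (_ : Finite L) (π : L →* ↥Cfsg.Spor.McL),
    PCE π ∧ Nat.card π.ker = 3 ∧ ∃ τ : MulAut L, ∀ z ∈ π.ker, τ z = z⁻¹ := by
  have hfin : Finite Cfsg.Spor.Ly := Cfsg.Agent.Ly.Setup.finite_ly
  have hA0 : Nat.card Cfsg.Agent.Ly.McL.Cent.A0 ≤ 378000 :=
    Cfsg.Agent.Ly.McL.ClassX.card_centralizer_x_le Cfsg.Agent.Ly.T1.card_Hhat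
  obtain ⟨h1, h2, h3, h4⟩ := Cfsg.Agent.Ly.McL.Main.main Cfsg.Agent.Ly.Index.data Cfsg.Agent.Ly.Pres.closure_gens
    Cfsg.Agent.Ly.Setup.card_ly hA0
  have hx := Cfsg.Agent.Ly.McL.Main.order_x' Cfsg.Agent.Ly.Index.data Cfsg.Agent.Ly.Pres.closure_gens
    Cfsg.Agent.Ly.Setup.card_ly
  obtain ⟨L⟩ := FactsLy.exists_mt_ly
  obtain ⟨g, h, hgh⟩ := exists_commutator Cfsg.Agent.Ly.Index.data
  obtain ⟨L', htx, h5, h6, L8, hL8⟩ := exists_out_data L hx h1 h2 h3 hgh
  obtain ⟨e⟩ := Cfsg.Agent.McLLyComp.FactsAutMT.iso_mcl L8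
  obtain ⟨y, hy⟩ := exists_inverting L' hx htx h5
  refine ⟨_, inferInstance, inferInstance, e.toMonoidHom.comp (QuotientGroup.mk' (center _)),
    ⟨e.surjective.comp (QuotientGroup.mk'_surjective _), ?_, h6⟩, ?_, OutLy.res (MulAut.conj y) hy, ?_⟩
  · rw [ker_congr, QuotientGroup.ker_mk']
  · rw [ker_congr, QuotientGroup.ker_mk', h2]
  · intro z hz
    rw [ker_congr, QuotientGroup.ker_mk'] at hz
    obtain ⟨i, hi⟩ := mem_zpowers_iff.1 ((mem_center_iff_zpowers hx h2).1 hz)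
    apply Subtype.ext
    have h7 : ((OutLy.res (MulAut.conj y) hy z : centralizer ({Cfsg.Agent.Ly.Mat7.ev (Cfsg.Agent.Ly.WalkCtx.X4
      Cfsg.Agent.Ly.Pres.gens) Cfsg.Agent.Ly.McL.Data.xw} : Set Cfsg.Spor.Ly)) : Cfsg.Spor.Ly) =
        MulAut.conj y (z : Cfsg.Spor.Ly) := rfl
    have h8 : MulAut.conj y (Cfsg.Agent.Ly.Mat7.ev (Cfsg.Agent.Ly.WalkCtx.X4
      Cfsg.Agent.Ly.Pres.gens) Cfsg.Agent.Ly.McL.Data.xw) = (Cfsg.Agent.Ly.Mat7.ev (Cfsg.Agent.Ly.WalkCtx.X4
      Cfsg.Agent.Ly.Pres.gens) Cfsg.Agent.Ly.McL.Data.xw)⁻¹ := hy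
    rw [h7, Subgroup.coe_inv, ← hi, map_zpow, h8, inv_zpow]

section aut

universe u v

variable {E : Type u} [Group E] {X : Type v} [Group X]

/-- an automorphism of a perfect group trivial modulo a central subgroup is trivial -/
theorem eq_one_of_trivial (hE : _root_.commutator E = ⊤) (π : E →* X) (hc : π.ker ≤ center E) (β : MulAut E)
    (h : ∀ x, π (β x) = π x) : ∀ x, β x = x := by
  have hz : ∀ c : E, β c * c⁻¹ ∈ center E := fun c => hc (by
    rw [MonoidHom.mem_ker, map_mul, map_inv, h, mul_inv_cancel])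
  let f : E →* center E :=
    { toFun := fun c => ⟨β c * c⁻¹, hz c⟩
      map_one' := by
        apply Subtype.ext
        show β 1 * 1⁻¹ = 1
        rw [map_one, inv_one, mul_one]
      map_mul' := fun c d => by
        apply Subtype.ext
        show β (c * d) * (c * d)⁻¹ = (β c * c⁻¹) * (β d * d⁻¹)
        have h1 := mem_center_iff.1 (hz d) c⁻¹
        calc β (c * d) * (c * d)⁻¹ = β c * ((β d * d⁻¹) * c⁻¹) := by
              rw [map_mul]; group
          _ = β c * (c⁻¹ * (β d * d⁻¹)) := by rw [h1]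
          _ = _ := by group }
  have h1 : (⊤ : Subgroup E) ≤ f.ker := by
    rw [← hE]
    rw [commutator_eq_closure, closure_le]
    rintro _ ⟨c, d, rfl⟩
    show f ⁅c, d⁆ = 1
    rw [map_commutatorElement, commutatorElement_eq_one_iff_mul_comm]
    exact Subtype.ext (mem_center_iff.1 (f d).2 _)
  intro x
  have h2 : f x = 1 := h1 (mem_top _)
  have h3 : β x * x⁻¹ = 1 := congrArg Subtype.val h2
  exact mul_inv_eq_one.1 h3

/-- the induced automorphism -/
theorem exists_induced (π : E →* X) (hπ : Function.Surjective π) (α : MulAut E)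
    (hα : ∀ z, α z ∈ π.ker ↔ z ∈ π.ker) : ∃ β : MulAut X, ∀ x, β (π x) = π (α x) := by
  have h1 : π.ker.map (α : E ≃* E).toMonoidHom = π.ker := by
    ext z
    constructor
    · rintro ⟨y, hy, rfl⟩
      exact (hα y).2 hy
    · intro hz
      refine ⟨α.symm z, ?_, α.apply_symm_apply z⟩
      rw [SetLike.mem_coe, ← hα]
      rwa [MulEquiv.apply_symm_apply]
  let e := QuotientGroup.quotientKerEquivOfSurjective π hπ
  refine ⟨(e.symm.trans (QuotientGroup.congr π.ker π.ker α h1)).trans e, fun x => ?_⟩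
  have h2 : e.symm (π x) = QuotientGroup.mk x := by
    rw [MulEquiv.symm_apply_eq]; rfl
  show e ((QuotientGroup.congr π.ker π.ker α h1) (e.symm (π x))) = _
  rw [h2]
  rfl

/-- an inner automorphism of the quotient comes from an inner automorphism -/
theorem eq_conj (hE : _root_.commutator E = ⊤) (π : E →* X) (hπ : Function.Surjective π) (hc : π.ker ≤ center E)
    (α : MulAut E) {g : X} (h : ∀ x, π (α x) = g * π x * g⁻¹) : ∃ e : E, ∀ x, α x = e * x * e⁻¹ := by
  obtain ⟨e, rfl⟩ := hπ g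
  refine ⟨e, fun x => ?_⟩
  have h1 := eq_one_of_trivial hE π hc ((MulAut.conj e)⁻¹ * α) (fun x => by
    rw [MulAut.mul_apply, MulAut.inv_apply, MulAut.conj_symm_apply, map_mul, map_mul, map_inv, h]
    group) x
  rw [MulAut.mul_apply, MulAut.inv_apply, MulAut.conj_symm_apply] at h1
  calc α x = e * (e⁻¹ * α x * e) * e⁻¹ := by group
    _ = _ := by rw [h1]

end aut

section cover

universe u

variable {E : Type u} [Group E] [Finite E]

theorem mcl_perfect : Finite ↥Cfsg.Spor.McL ∧ _root_.commutator ↥Cfsg.Spor.McL = ⊤ := by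
  have hiso : Cfsg.Spor.IsoMcL ↥Cfsg.Spor.McL := ⟨MulEquiv.refl _⟩
  obtain ⟨hfin, hs, hcard, -⟩ := Cfsg.Agent.TypeM.FactsMcL.facts hiso
  exact ⟨hfin, Cfsg.Agent.H51.Tools.perfect_of_simple hs (by rw [hcard]; norm_num)⟩

/-- the cover has an automorphism inverting the centre -/
theorem exists_inv_aut (hE : _root_.commutator E = ⊤) (π : E →* ↥Cfsg.Spor.McL) (hπ : Function.Surjective π)
    (hc : π.ker ≤ center E) (hcard : Nat.card π.ker = 3) : ∃ τ : MulAut E, ∀ z ∈ π.ker, τ z = z⁻¹ := by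
  obtain ⟨hfin, hperf⟩ := mcl_perfect
  obtain ⟨L, _, _, σ, hσ, h3, τ, hτ⟩ := exists_three_inv
  obtain ⟨φ, hφ, hφ'⟩ := H95.StemCover.exists_cover' hperf S2047.result σ ⟨hσ.surj, hσ.cen, by
    rw [hσ.perf]; exact le_top⟩ (by
      rw [h3, Nat.card_congr Multiplicative.toAdd, Nat.card_zmod]) hE π hπ hc
  have h4 : Nat.card L = Nat.card E := by
    rw [← card_mul_index σ.ker, ← card_mul_index π.ker, index_ker, index_ker,
      MonoidHom.range_eq_top.2 hσ.surj, MonoidHom.range_eq_top.2 hπ, h3, hcard]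
  let e : L ≃* E := MulEquiv.ofBijective φ ((Nat.bijective_iff_surjective_and_card _).2 ⟨hφ, h4⟩)
  refine ⟨(e.symm.trans τ).trans e, fun z hz => ?_⟩
  have h5 : e.symm z ∈ σ.ker := by
    rw [MonoidHom.mem_ker, ← hφ']
    have h6 : φ (e.symm z) = z := e.apply_symm_apply z
    rw [h6]
    exact hz
  show e (τ (e.symm z)) = z⁻¹
  rw [hτ _ h5, map_inv, MulEquiv.apply_symm_apply]

/-- **An automorphism of `3.McL` trivial on the centre is inner.** -/
theorem inner_of_trivial (hE : _root_.commutator E = ⊤) (π : E →* ↥Cfsg.Spor.McL) (hπ : Function.Surjective π)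
    (hc : π.ker ≤ center E) (hcard : Nat.card π.ker = 3) (α : MulAut E) (hα : ∀ z ∈ π.ker, α z = z) :
    ∃ e : E, ∀ x, α x = e * x * e⁻¹ := by
  obtain ⟨τ, hτ⟩ := exists_inv_aut hE π hπ hc hcard
  obtain ⟨z0, hz0, hz1⟩ : ∃ z0 ∈ π.ker, z0 ≠ 1 := by
    by_contra hcon
    push Not at hcon
    have h1 : π.ker = ⊥ := by
      rw [eq_bot_iff]
      intro z hz
      exact mem_bot.2 (hcon z hz)
    rw [h1, card_bot] at hcard
    exact absurd hcard (by norm_num)
  have hne : z0⁻¹ ≠ z0 := by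
    intro h
    have h2 : z0 ^ 2 = 1 := by rw [sq]; nth_rw 1 [← h]; exact inv_mul_cancel z0
    have h3 : z0 ^ 3 = 1 := by
      have h4 : (⟨z0, hz0⟩ : π.ker) ^ 3 = 1 := by rw [← hcard]; exact pow_card_eq_one'
      exact congrArg Subtype.val h4
    apply hz1
    rw [pow_succ, h2, one_mul] at h3
    exact h3
  have hconj : ∀ e : E, ∀ z ∈ π.ker, e * z * e⁻¹ = z := by
    intro e z hz
    rw [mem_center_iff.1 (hc hz) e, mul_inv_cancel_right]
  have hα' : ∀ z, α z ∈ π.ker ↔ z ∈ π.ker := by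
    intro z
    constructor
    · intro h
      have h1 : α (α z) = α z := hα _ h
      rw [α.injective h1] at h
      exact h
    · intro h
      rw [hα z h]; exact h
  have hτ' : ∀ z, τ z ∈ π.ker ↔ z ∈ π.ker := by
    intro z
    constructor
    · intro h
      have h1 : τ (τ z)⁻¹ = τ z := by rw [hτ _ (inv_mem h), inv_inv]
      have h2 := τ.injective h1
      rw [← h2]
      exact inv_mem h
    · intro h
      rw [hτ z h]; exact inv_mem h
  obtain ⟨a, ha⟩ := exists_induced π hπ α hα'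
  obtain ⟨t, ht⟩ := exists_induced π hπ τ hτ'
  have hidx : (MulAut.conj : ↥Cfsg.Spor.McL →* MulAut ↥Cfsg.Spor.McL).range.index = 2 := S2073.result
  by_cases h1 : a ∈ (MulAut.conj : ↥Cfsg.Spor.McL →* MulAut ↥Cfsg.Spor.McL).range
  · obtain ⟨g, hg⟩ := h1
    exact eq_conj hE π hπ hc α (g := g) (fun x => by rw [← ha, ← hg, MulAut.conj_apply])
  · exfalso
    by_cases h2 : t ∈ (MulAut.conj : ↥Cfsg.Spor.McL →* MulAut ↥Cfsg.Spor.McL).range
    · obtain ⟨g, hg⟩ := h2
      obtain ⟨e, he⟩ := eq_conj hE π hπ hc τ (g := g) (fun x => by rw [← ht, ← hg, MulAut.conj_apply])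
      have h3 := he z0
      rw [hτ z0 hz0, hconj e z0 hz0] at h3
      exact hne h3
    · have h3 : a * t ∈ (MulAut.conj : ↥Cfsg.Spor.McL →* MulAut ↥Cfsg.Spor.McL).range := by
        rw [Subgroup.mul_mem_iff_of_index_two hidx]
        exact ⟨fun h => absurd h h1, fun h => absurd h h2⟩
      obtain ⟨g, hg⟩ := h3
      obtain ⟨e, he⟩ := eq_conj hE π hπ hc (α * τ) (g := g) (fun x => by
        rw [MulAut.mul_apply, ← ha, ← ht, ← MulAut.mul_apply, ← hg, MulAut.conj_apply])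
      have h4 := he z0
      rw [hconj e z0 hz0, MulAut.mul_apply, hτ z0 hz0, hα _ (inv_mem hz0)] at h4
      exact hne h4

end cover

section sub

universe u

variable {G : Type u} [Group G] [Finite G]

/-- **The elements outside of `E C(E)` invert the centre.** -/
theorem inv_of_outer (E : Subgroup G) [E.Normal] (hE : _root_.commutator E = ⊤) (π : E →* ↥Cfsg.Spor.McL)
    (hπ : Function.Surjective π) (hc : π.ker ≤ center E) (hcard : Nat.card π.ker = 3) (x : G)
    (hx : ¬ ∃ e ∈ E, ∀ y ∈ E, x * y * x⁻¹ = e * y * e⁻¹) : ∀ z : E, z ∈ π.ker → x * (z : G) * x⁻¹ = (z : G)⁻¹ := by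
  obtain ⟨hfin, hperf⟩ := mcl_perfect
  have hcen : π.ker = center E := by
    apply le_antisymm hc
    intro z hz
    have hiso : Cfsg.Spor.IsoMcL ↥Cfsg.Spor.McL := ⟨MulEquiv.refl _⟩
    obtain ⟨-, hs, hcd, -⟩ := Cfsg.Agent.TypeM.FactsMcL.facts hiso
    haveI := hs
    have h1 : center ↥Cfsg.Spor.McL = ⊥ := by
      rcases (inferInstance : (center ↥Cfsg.Spor.McL).Normal).eq_bot_or_eq_top with h | h
      · exact h
      · exfalso
        have h2 : _root_.commutator ↥Cfsg.Spor.McL = ⊥ := by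
          rw [commutator_eq_bot_iff_center_eq_top]; exact h
        rw [hperf] at h2
        have h3 := congrArg (fun K : Subgroup ↥Cfsg.Spor.McL => Nat.card K) h2
        simp only [card_top, card_bot] at h3
        rw [hcd] at h3
        exact absurd h3 (by norm_num)
    rw [MonoidHom.mem_ker, ← mem_bot, ← h1, mem_center_iff]
    intro y
    obtain ⟨y, rfl⟩ := hπ y
    rw [← map_mul, ← map_mul, mem_center_iff.1 hz y]
  set α : MulAut E := MulAut.conjNormal x with hαdef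
  have hα : ∀ y : E, ((α y : E) : G) = x * y * x⁻¹ := fun y => MulAut.conjNormal_apply x y
  have hpres : ∀ z ∈ π.ker, α z ∈ π.ker := by
    intro z hz
    rw [hcen] at hz ⊢
    rw [mem_center_iff] at hz ⊢
    intro y
    obtain ⟨y, rfl⟩ := α.surjective y
    rw [← map_mul, ← map_mul, hz]
  obtain ⟨z1, hz1, hne⟩ : ∃ z1 ∈ π.ker, α z1 ≠ z1 := by
    by_contra hcon
    push Not at hcon
    obtain ⟨e, he⟩ := inner_of_trivial hE π hπ hc hcard α hcon
    apply hx
    refine ⟨e, e.2, fun y hy => ?_⟩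
    have h1 := congrArg Subtype.val (he ⟨y, hy⟩)
    rw [hα] at h1
    exact h1
  haveI : Fact (Nat.Prime 3) := ⟨Nat.prime_three⟩
  have hz1' : z1 ≠ 1 := by
    rintro rfl
    exact hne (map_one α)
  have hpw : ∀ z ∈ π.ker, ∃ i : ℤ, z1 ^ i = z := by
    intro z hz
    have h1 : (⟨z, hz⟩ : π.ker) ∈ zpowers (⟨z1, hz1⟩ : π.ker) :=
      mem_zpowers_of_prime_card hcard (fun h => hz1' (congrArg Subtype.val h))
    obtain ⟨i, hi⟩ := mem_zpowers_iff.1 h1
    exact ⟨i, congrArg Subtype.val hi⟩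
  have h3 : z1 ^ (3 : ℤ) = 1 := by
    have h4 : (⟨z1, hz1⟩ : π.ker) ^ 3 = 1 := by rw [← hcard]; exact pow_card_eq_one'
    have h5 : z1 ^ 3 = 1 := congrArg Subtype.val h4
    exact_mod_cast h5
  have hinv : α z1 = z1⁻¹ := by
    obtain ⟨i, hi⟩ := hpw _ (hpres z1 hz1)
    have h5 : z1 ^ i = z1 ^ (i % 3) := by
      conv_lhs => rw [← Int.emod_add_mul_ediv i 3, zpow_add, zpow_mul, h3, one_zpow, mul_one]
    have h6 : i % 3 = 0 ∨ i % 3 = 1 ∨ i % 3 = 2 := by omega
    rw [← hi, h5]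
    rcases h6 with h | h | h
    · exfalso
      rw [h5, h, zpow_zero] at hi
      exact hz1' (α.map_eq_one_iff.1 hi.symm)
    · exfalso
      rw [h5, h, zpow_one] at hi
      exact hne hi.symm
    · rw [h, eq_inv_iff_mul_eq_one, ← zpow_add_one]
      exact h3
  intro z hz
  obtain ⟨i, rfl⟩ := hpw z hz
  rw [← hα, map_zpow, hinv, inv_zpow, Subgroup.coe_inv]

end sub

end Cfsg.Agent.H681.TI.McLCov
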