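import Cfsg.Agent.H681.TI.Rows
import Cfsg.Agent.H681.TI.McLCov

/-!
# S4819: the row `McL`, `p = 5`, from the counts (helper681)

* `Alm.index_dvd` : `|H : S|` divides `|Out S|`;
* `rowMcL_of` : `RowMcL` from `C_H(R)`, the counts `Cnt 5` for `McL`, `McL.2`, and the two numbers for `3.McL`.
-/

set_option autoImplicit false
set_option linter.style.haveILetI false
set_option linter.unusedSectionVars false

open Cfsg
open scoped Pointwise commutatorElement

namespace Cfsg.Agent.H681.TI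

open Cfsg.Agent.H672 Cfsg.Agent.H672.RM Cfsg.Agent.H675.Nd Cfsg.Agent.Characters.Core
open Cfsg.Agent.H723.TI (TIs Rk Sit img Row RowMcL)
open Cfsg.Agent.H34.TI (Cnt IsTI)

universe u v w

/-- `|H : S|` divides `|Out S|`. -/
theorem Alm.index_dvd {H : Type u} [Group H] {S : Subgroup H} (h : Alm S) {Y : Type v} [Group Y] (e : S ≃* Y) :
    S.index ∣ Nat.card (Out Y) := by
  haveI := h.normal
  let φ : H →* MulAut Y := (MulAut.congr e).toMonoidHom.comp MulAut.conjNormal
  have hφ : ∀ (x : H) (y : S), φ x (e y) = e (MulAut.conjNormal x y) := by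
    intro x y
    show e (MulAut.conjNormal x (e.symm (e y))) = _
    rw [MulEquiv.symm_apply_apply]
  have hker : φ.ker = ⊥ := by
    rw [eq_bot_iff, ← h.cent]
    intro x hx
    rw [Subgroup.mem_centralizer_iff]
    intro y hy
    have h1 : φ x (e ⟨y, hy⟩) = e ⟨y, hy⟩ := by rw [(MonoidHom.mem_ker).1 hx]; rfl
    rw [hφ] at h1
    have h2 := congrArg Subtype.val (e.injective h1)
    rw [MulAut.conjNormal_apply] at h2
    change x * y * x⁻¹ = y at h2
    rw [mul_inv_eq_iff_eq_mul] at h2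
    exact h2.symm
  have hinj : Function.Injective φ := (MonoidHom.ker_eq_bot_iff φ).1 hker
  have hS : S.map φ = (MulAut.conj : Y →* MulAut Y).range := by
    ext α
    constructor
    · rintro ⟨x, hx, rfl⟩
      refine ⟨e ⟨x, hx⟩, ?_⟩
      ext y
      obtain ⟨y, rfl⟩ := e.surjective y
      rw [hφ, MulAut.conj_apply, ← map_inv, ← map_mul, ← map_mul]
      congr 1
    · rintro ⟨y, rfl⟩
      obtain ⟨x, rfl⟩ := e.surjective y
      refine ⟨x, x.2, ?_⟩
      ext y
      obtain ⟨y, rfl⟩ := e.surjective y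
      rw [hφ, MulAut.conj_apply, ← map_inv, ← map_mul, ← map_mul]
      congr 1
  have h1 : S.index = (S.map φ).relIndex φ.range := by
    rw [← Subgroup.relIndex_top_right, ← Subgroup.relIndex_map_map_of_injective S ⊤ hinj, MonoidHom.range_eq_map]
  rw [h1, hS]
  have h2 : Nat.card (Out Y) = (MulAut.conj : Y →* MulAut Y).range.index := rfl
  rw [h2]
  haveI : (MulAut.conj : Y →* MulAut Y).range.Normal := inferInstanceAs (Inn Y).Normal
  exact Subgroup.relIndex_dvd_index_of_normal _ _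

theorem Alm.index_eq_one {H : Type u} [Group H] {S : Subgroup H} (h : Alm S) {Y : Type v} [Group Y] (e : S ≃* Y)
    (hY : Nat.card (Out Y) = 1) : S.index = 1 :=
  Nat.dvd_one.1 (hY ▸ h.index_dvd e)

theorem Alm.index_prime {H : Type u} [Group H] {S : Subgroup H} (h : Alm S) {Y : Type v} [Group Y] (e : S ≃* Y)
    {q : ℕ} (hq : q.Prime) (hY : Nat.card (Out Y) = q) : S.index = 1 ∨ S.index = q :=
  (Nat.dvd_prime hq).1 (hY ▸ h.index_dvd e)

section mcl
variable {G : Type u} [Group G] [Finite G] {p : ℕ} [hp : Fact p.Prime]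

/-- the normalizer of `P` in `E` -/
theorem mem_normalizer_sub {E P : Subgroup G} (hPE : P ≤ E) (x : E) :
    x ∈ Subgroup.normalizer ((P.subgroupOf E : Subgroup E) : Set E) ↔ (x : G) ∈ Subgroup.normalizer (P : Set G) := by
  rw [Subgroup.mem_normalizer_iff, Subgroup.mem_normalizer_iff]
  constructor
  · intro h y
    by_cases hy : y ∈ E
    · exact h ⟨y, hy⟩
    · constructor
      · intro hy'
        exact absurd (hPE hy') hy
      · intro hy'
        exfalso
        apply hy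
        have h1 := hPE hy'
        have h2 : (x : G)⁻¹ * ((x : G) * y * (x : G)⁻¹) * x = y := by group
        rw [← h2]
        exact E.mul_mem (E.mul_mem (E.inv_mem x.2) h1) x.2
  · intro h y
    exact h y

/-- a Sylow TI subgroup is TI in every overgroup -/
theorem tis_subtype {p : ℕ} {P : Sylow p G} {E : Subgroup G} (hPE : (P : Subgroup G) ≤ E) (h : TIs P) :
    TIs (P.subtype hPE) := by
  intro g hg
  have hg' : (g : G) ∉ Subgroup.normalizer ((P : Subgroup G) : Set G) := fun e => hg ((mem_normalizer_sub hPE g).2 e)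
  have h1 := h g hg'
  rw [Subgroup.eq_bot_iff_forall]
  intro x hx
  obtain ⟨hx1, hx2⟩ := Subgroup.mem_inf.1 hx
  have h3 : (x : G) ∈ (P : Subgroup G) ⊓ (MulAut.conj (g : G) • (P : Subgroup G)) := by
    refine Subgroup.mem_inf.2 ⟨Subgroup.mem_subgroupOf.1 hx1, ?_⟩
    rw [Subgroup.mem_pointwise_smul_iff_inv_smul_mem] at hx2 ⊢
    exact Subgroup.mem_subgroupOf.1 hx2
  rw [h1, Subgroup.mem_bot] at h3
  exact Subtype.ext h3

end mcl

/-- **The row `McL`.** -/
theorem rowMcL_of
    (hC : ∀ (H : Type u) [Group H] [Finite H] (S : Subgroup H), Alm S → Spor.IsoMcL S → ∀ R : Sylow 5 H,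
      (R : Subgroup H) ≤ S → ∀ x ∈ Subgroup.centralizer ((R : Subgroup H) : Set H), ¬ 5 ∣ orderOf x → x = 1)
    (hcnt : ∀ (H : Type u) [Group H] [Finite H] (S : Subgroup H), Alm S → Spor.IsoMcL S → Cnt 5 H)
    (n : ℕ)
    (hE : ∀ (E : Type u) [Group E] [Finite E], commutator E = ⊤ → ∀ (Z : Subgroup E) [Z.Normal],
      Z ≤ Subgroup.center E → Nat.card Z = 3 → Spor.IsoMcL (E ⧸ Z) → ∀ l : Z →* ℂˣ, l ≠ 1 →
      Nat.card {η : IrrCharacter E // (∀ z : Z, (η : E → ℂ) z = (l z : ℂ) * (η : E → ℂ) 1) ∧ ¬ DZ 5 (η : E → ℂ)} = n)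
    (hN : ∀ (E : Type u) [Group E] [Finite E], commutator E = ⊤ → ∀ (Z : Subgroup E) [Z.Normal],
      Z ≤ Subgroup.center E → Nat.card Z = 3 → Spor.IsoMcL (E ⧸ Z) → ∀ l : Z →* ℂˣ, l ≠ 1 → ∀ R : Sylow 5 E, TIs R →
      Nat.card {η : IrrCharacter (Subgroup.normalizer ((R : Subgroup E) : Set E)) //
        ∀ z : Z, ∀ hz : (z : E) ∈ Subgroup.normalizer ((R : Subgroup E) : Set E),
          (η : Subgroup.normalizer ((R : Subgroup E) : Set E) → ℂ) ⟨z, hz⟩ = (l z : ℂ) *
            (η : Subgroup.normalizer ((R : Subgroup E) : Set E) → ℂ) 1} = n) :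
    RowMcL.{u} := by
  intro G _ _ P S hS hPS hXS
  haveI : Fact (Nat.Prime 5) := ⟨by norm_num⟩
  haveI := hS.normal
  haveI := hS.simple
  have hA : Alm S := ⟨hS.normal, hS.cent⟩
  obtain ⟨e⟩ := id hXS
  have h5S : 5 ∣ Nat.card S := by
    obtain ⟨-, -, hcard, -⟩ := Cfsg.Agent.TypeM.FactsMcL.facts hXS
    rw [hcard]; norm_num
  have hP1 := ne_bot_of_dvd P h5S
  have hS1 := normalClosure_eq P hS hP1 hPS
  have hperfS : commutator S = ⊤ := perfect_of_simple hS.nonab
  have hidx : S.index = 1 ∨ S.index = 2 := hA.index_prime e Nat.prime_two S2073.result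
  refine rk_of_frame P hP1 hS.ti hS.cen (hC _ S hA hXS (P.mapSurjective (QuotientGroup.mk'_surjective _)) hPS) S hS1
    (isCyclic_of_index (hidx.imp id fun h => by rw [h]; exact Nat.prime_two))
    (fun U hU => hcnt U (S.subgroupOf U) (hA.sub hU) ⟨(Subgroup.subgroupOfEquivOfLe hU).trans e⟩) ?_
  have hcomm := comm_normalClosure hS.cen
  have hEp := perfect_normalClosure P hS.cen hS1 hperfS
  have hdvd := card_dvd_of_mult P hS.cen hS1 hperfS e S2047.result
  have hPE : (P : Subgroup G) ≤ Subgroup.normalClosure ((P : Subgroup G) : Set G) := Subgroup.le_normalClosure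
  set E := Subgroup.normalClosure ((P : Subgroup G) : Set G) with hEdef
  set K := pPrimeCore 5 G with hKdef
  intro θ hθ l hl hl1
  haveI hKn : K.Normal := Lib.Cores.pPrimeCore_normal 5
  haveI hEn : E.Normal := Subgroup.normalClosure_normal
  have hcard3 : Nat.card ↥(K ⊓ E) = 3 := by
    rcases (Nat.dvd_prime Nat.prime_three).1 hdvd with h | h
    · exfalso
      apply hl1
      ext z
      have h1 : z = 1 := Subtype.ext (Subgroup.mem_bot.1 (Subgroup.card_eq_one.1 h ▸ z.2))
      rw [h1, map_one, map_one]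
    · exact h
  -- the cover
  let e1 : E.map (QuotientGroup.mk' K) ≃* S := MulEquiv.subgroupCongr hS1
  let ρ : E →* S := e1.toMonoidHom.comp ((QuotientGroup.mk' K).subgroupMap E)
  have hρ : Function.Surjective ρ := e1.surjective.comp ((QuotientGroup.mk' K).subgroupMap_surjective E)
  have hρv : ∀ x : E, ((ρ x : S) : G ⧸ K) = QuotientGroup.mk' K x := fun _ => rfl
  have hρk : ρ.ker = K.subgroupOf E := by
    ext x
    rw [MonoidHom.mem_ker, Subgroup.mem_subgroupOf, ← QuotientGroup.eq_one_iff (N := K)]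
    exact ⟨fun h => congrArg Subtype.val h, fun h => Subtype.ext h⟩
  let π : E →* ↥Spor.McL := e.toMonoidHom.comp ρ
  have hπ : Function.Surjective π := e.surjective.comp hρ
  have hπk : π.ker = K.subgroupOf E := by
    rw [← hρk]
    ext x
    rw [MonoidHom.mem_ker, MonoidHom.mem_ker]
    exact e.map_eq_one_iff
  have hZc : K.subgroupOf E ≤ Subgroup.center E := by
    intro x hx
    rw [Subgroup.mem_center_iff]
    intro y
    exact Subtype.ext (hcomm x (Subgroup.mem_subgroupOf.1 hx) y y.2).symm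
  have hZ3 : Nat.card (K.subgroupOf E) = 3 := by
    rw [← Subgroup.card_map_of_injective (Subgroup.subtype_injective E), Subgroup.subgroupOf_map_subtype]
    exact hcard3
  have hiso : Spor.IsoMcL (E ⧸ K.subgroupOf E) :=
    ⟨((QuotientGroup.quotientMulEquivOfEq hπk.symm).trans (QuotientGroup.quotientKerEquivOfSurjective π hπ))⟩
  -- inversion
  have hinv : ∀ x : G, x ∉ K ⊔ E → ∀ z ∈ K ⊓ E, x * z * x⁻¹ = z⁻¹ := by
    intro x hx z hz
    refine McLCov.inv_of_outer E hEp π hπ (hπk ▸ hZc) (by rw [hπk]; exact hZ3) x ?_ ⟨z, hz.2⟩ (by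
      rw [hπk]; exact hz.1)
    rintro ⟨g, hg, hge⟩
    apply hx
    have h1 : QuotientGroup.mk' K (g⁻¹ * x) ∈ Subgroup.centralizer (S : Set (G ⧸ K)) := by
      rw [Subgroup.mem_centralizer_iff]
      intro s hs
      have hs' : s ∈ E.map (QuotientGroup.mk' K) := by rw [hS1]; exact hs
      obtain ⟨y, hy, rfl⟩ := hs'
      rw [← map_mul, ← map_mul]
      congr 1
      have h2 := hge y hy
      calc y * (g⁻¹ * x) = g⁻¹ * (g * y * g⁻¹) * x := by group
        _ = g⁻¹ * (x * y * x⁻¹) * x := by rw [h2]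
        _ = g⁻¹ * x * y := by group
    rw [hS.cent, Subgroup.mem_bot] at h1
    have h3 : g⁻¹ * x ∈ K := (QuotientGroup.eq_one_iff _).1 h1
    have h4 : x = g * (g⁻¹ * x) := by group
    rw [h4]
    exact Subgroup.mul_mem _ ((le_sup_right : E ≤ K ⊔ E) hg) ((le_sup_left : K ≤ K ⊔ E) h3)
  refine ⟨stab_le_of_inv (by rw [hcard3]; decide) hinv hθ l hl hl1, ?_⟩
  -- the numbers
  let zE : K.subgroupOf E →* ↥(K ⊓ E) :=
    { toFun := fun z => ⟨(z : E), Subgroup.mem_subgroupOf.1 z.2, (z : E).2⟩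
      map_one' := rfl
      map_mul' := fun _ _ => rfl }
  have hzE : Function.Surjective zE := fun z => ⟨⟨⟨z, z.2.2⟩, Subgroup.mem_subgroupOf.2 z.2.1⟩, rfl⟩
  have hl' : l.comp zE ≠ 1 := by
    intro h
    apply hl1
    ext z
    obtain ⟨z, rfl⟩ := hzE z
    have h1 := DFunLike.congr_fun h z
    exact congrArg Units.val h1
  have n1 := hE E hEp (K.subgroupOf E) hZc hZ3 hiso (l.comp zE) hl'
  have n2 := hN E hEp (K.subgroupOf E) hZc hZ3 hiso (l.comp zE) hl' (P.subtype hPE) (tis_subtype hPE hS.ti)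
  have m1 : Nat.card {η : IrrCharacter E // (∀ z : ↥(K ⊓ E), (η : E → ℂ) ⟨z, z.2.2⟩ = (l z : ℂ) * (η : E → ℂ) 1) ∧
      ¬ DZ 5 (η : E → ℂ)} = n := by
    rw [← n1]
    refine Nat.card_congr (Equiv.subtypeEquivRight fun η => ?_)
    refine and_congr_left fun _ => ?_
    constructor
    · intro h z
      exact h (zE z)
    · intro h z
      exact h ⟨⟨z, z.2.2⟩, Subgroup.mem_subgroupOf.2 z.2.1⟩
  rw [m1, ← n2]
  -- the normalizer
  have hNmem : ∀ x : E, x ∈ Subgroup.normalizer (((P.subtype hPE : Sylow 5 E) : Subgroup E) : Set E) ↔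
      (x : G) ∈ Subgroup.normalizer ((P : Subgroup G) : Set G) := mem_normalizer_sub hPE
  let ν : (Subgroup.normalizer ((P : Subgroup G) : Set G) ⊓ E : Subgroup G) ≃*
      Subgroup.normalizer (((P.subtype hPE : Sylow 5 E) : Subgroup E) : Set E) :=
    { toFun := fun x => ⟨⟨x, x.2.2⟩, (hNmem _).2 x.2.1⟩
      invFun := fun y => ⟨(y : E), (hNmem _).1 y.2, (y : E).2⟩
      left_inv := fun _ => rfl
      right_inv := fun _ => rfl
      map_mul' := fun _ _ => rfl }
  refine Nat.card_congr ((irrEquiv ν).subtypeEquiv fun η => ?_)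
  constructor
  · intro h z hz
    exact h ⟨⟨z, z.2.2⟩, Subgroup.mem_subgroupOf.2 z.2.1⟩ ((hNmem _).2 hz.1)
  · intro h z hz
    exact h (zE z) ⟨(hNmem _).1 hz, (z : E).2⟩

end Cfsg.Agent.H681.TI
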