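import Cfsg.Agent.H675.Nd.Cliff
import Cfsg.Agent.H592.Defect
import Cfsg.Agent.H967.TI.PropC
import Cfsg.Agent.S4510
import Cfsg.Agent.S0956
import Cfsg.Agent.S0963
import Cfsg.Agent.S0934
import Cfsg.Agent.S0914

/-!
# S4819, Clifford part: the blocks of full defect over a character of a normal `p'`-subgroup (helper681)

`P` a Sylow `p`-subgroup with `P ∩ P^x` trivial or `P`, `K` a normal `p'`-subgroup containing the `p'`-elements of
`C(P)`:

* `full_or_dz` : a character is of `p`-defect zero or in a block of full defect;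
* `sameBlock_of_over` : two characters in blocks of full defect over the same character of `K` are in the same block;
* `blocks` : for a block `B` of `G` with defect group `P` and a block `b` of `N(P)` inducing `B` there is `θ ∈ Irr K`
  with `B = {χ | χ over θ, not of defect zero}`, `b = {ψ | ψ over θ}`.
-/

set_option autoImplicit false
set_option linter.style.haveILetI false
set_option linter.unusedSectionVars false

open Cfsg
open scoped Pointwise

namespace Cfsg.Agent.H681.TI

open Cfsg.Agent.H672 Cfsg.Agent.H672.RM Cfsg.Agent.Characters.Core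

universe u

/-- `p`-defect zero -/
def DZ (p : ℕ) {G : Type u} [Group G] (χ : G → ℂ) : Prop :=
  (charDegree χ).factorization p = (Nat.card G).factorization p

section
variable {X : Type u} [Group X] [Finite X] {p : ℕ} [hp : Fact p.Prime] {M : Ideal AlgInt}

theorem factorization_le {χ : X → ℂ} (hχ : IsIrrCharacter X χ) :
    (charDegree χ).factorization p ≤ (Nat.card X).factorization p :=
  (Nat.factorization_le_iff_dvd (Blocks.Basic.charDegree_pos hχ).ne' Nat.card_pos.ne').2
    (Blocks.Knorr.charDegree_dvd hχ) p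

theorem dz_iff {χ : X → ℂ} (hχ : IsIrrCharacter X χ) : DZ p χ ↔ ¬ p ∣ Nat.card X / charDegree χ := by
  have h0 := (Blocks.Basic.charDegree_pos hχ).ne'
  have hd := Blocks.Knorr.charDegree_dvd hχ
  obtain ⟨m, hm⟩ := hd
  have hm0 : m ≠ 0 := by
    rintro rfl
    rw [mul_zero] at hm
    exact Nat.card_pos.ne' hm
  rw [hm, Nat.mul_div_cancel_left m (Nat.pos_of_ne_zero h0)]
  unfold DZ
  rw [hm, Nat.factorization_mul h0 hm0, Finsupp.add_apply]
  rw [hp.out.dvd_iff_one_le_factorization hm0]
  omega

theorem blockOf_of_dz (hM : IsPModular p M) {χ : IrrCharacter X} (h : DZ p (χ : X → ℂ)) :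
    blockOf M (χ : X → ℂ) = {χ} :=
  (S0914.result p M hM χ).1 ((dz_iff χ.2).1 h)

theorem blockDefect_of_dz (hM : IsPModular p M) {χ : IrrCharacter X} (h : DZ p (χ : X → ℂ)) :
    blockDefect p (blockOf M (χ : X → ℂ)) = 0 := by
  rw [blockOf_of_dz hM h, Blocks.Basic.blockDefect_def, Set.image_singleton, csInf_singleton]
  unfold DZ at h
  omega

/-- A character is of defect zero or lies in a block of full defect. -/
theorem full_or_dz (hM : IsPModular p M) (P : Sylow p X)
    (hTI : ∀ x : X, (P : Subgroup X) ⊓ (P : Subgroup X).map (MulAut.conj x).toMonoidHom = ⊥ ∨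
      (P : Subgroup X) ⊓ (P : Subgroup X).map (MulAut.conj x).toMonoidHom = P)
    (χ : IrrCharacter X) (h : ¬ DZ p (χ : X → ℂ)) :
    blockDefect p (blockOf M (χ : X → ℂ)) = (Nat.card X).factorization p := by
  have hMp := hM.2.1.isPrime
  have hB : IsPBlock M (blockOf M (χ : X → ℂ)) := ⟨χ, rfl⟩
  obtain ⟨D, hD⟩ := H592.Defect.exists_defectGroup p hM hB
  have hDp := H592.Defect.isPGroup_of_isDefectGroup hD
  obtain ⟨Q, hQ⟩ := hDp.exists_le_sylow
  obtain ⟨g, hg⟩ := MulAction.exists_smul_eq X Q P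
  have hD' := Blocks.Basic.isDefectGroup_conj hD g
  have hle : D.map (MulAut.conj g).toMonoidHom ≤ (P : Subgroup X) := by
    have h1 : (P : Subgroup X) = (Q : Subgroup X).map (MulAut.conj g).toMonoidHom := by
      rw [← hg]; rfl
    rw [h1]
    exact Subgroup.map_mono hQ
  obtain ⟨x, -, -, hx⟩ := S0956.result p M hM _ hB _ hD' P hle
  have hcard := H592.Defect.factorization_card_defect p hM hB hD'
  rcases hTI x with h1 | h1
  · rw [h1] at hx
    rw [← hx, Subgroup.card_bot, Nat.factorization_one, Finsupp.zero_apply] at hcard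
    exfalso
    apply h
    have h2 : sInf ((fun χ : IrrCharacter X => (charDegree (χ : X → ℂ)).factorization p) ''
        (blockOf M (χ : X → ℂ))) ≤ (charDegree (χ : X → ℂ)).factorization p :=
      Nat.sInf_le ⟨χ, Blocks.Basic.mem_blockOf_self χ, rfl⟩
    have h3 : (charDegree (χ : X → ℂ)).factorization p ≤ (Nat.card X).factorization p :=
      factorization_le χ.2
    rw [Blocks.Basic.blockDefect_def] at hcard
    unfold DZ
    omega
  · rw [h1] at hx
    rw [← hcard, ← hx, P.card_eq_multiplicity, hp.out.factorization_pow, Finsupp.single_eq_same]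

/-- Over a character of a normal `p'`-subgroup: a property of the block. -/
theorem over_of_sameBlock (hM : IsPModular p M) (K : Subgroup X) [K.Normal] (hK : ¬ p ∣ Nat.card K)
    {θ : K → ℂ} (hθ : IsIrrCharacter K θ) {χ ψ : IrrCharacter X}
    (h : SameBlock M (χ : X → ℂ) (ψ : X → ℂ)) (h1 : Over K.subtype (χ : X → ℂ) θ) :
    Over K.subtype (ψ : X → ℂ) θ := by
  classical
  letI := Fintype.ofFinite X
  letI := Fintype.ofFinite K
  rw [over_subtype_iff] at h1 ⊢
  rw [S0963.result K ψ ⟨θ, hθ⟩]
  have h2 := (S0963.result K χ ⟨θ, hθ⟩).1 h1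
  intro n
  rw [← h2 n]
  unfold centralChar
  rw [mul_div_assoc, mul_div_assoc, H967.TI.apply_div_of_sameBlock hM K hK h n.2]

/-- Characters in blocks of full defect over the same character. -/
theorem sameBlock_of_over (hM : IsPModular p M) (P : Sylow p X) (K : Subgroup X) [K.Normal]
    (hC : ∀ x ∈ Subgroup.centralizer ((P : Subgroup X) : Set X), ¬ p ∣ orderOf x → x ∈ K)
    {θ : K → ℂ} (hθ : IsIrrCharacter K θ) {χ ψ : IrrCharacter X}
    (h1 : Over K.subtype (χ : X → ℂ) θ) (h2 : Over K.subtype (ψ : X → ℂ) θ)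
    (d1 : blockDefect p (blockOf M (χ : X → ℂ)) = (Nat.card X).factorization p)
    (d2 : blockDefect p (blockOf M (ψ : X → ℂ)) = (Nat.card X).factorization p) :
    SameBlock M (χ : X → ℂ) (ψ : X → ℂ) := by
  classical
  letI := Fintype.ofFinite X
  letI := Fintype.ofFinite K
  have hMp := hM.2.1.isPrime
  rw [S4510.result p M hM _ χ ψ d1 d2]
  intro x hx hcx
  have hxK : x ∈ K := by
    obtain ⟨Q⟩ : Nonempty (Sylow p (Subgroup.centralizer ({x} : Set X))) := inferInstance
    have hQ : IsPGroup p ((Q : Subgroup (Subgroup.centralizer ({x} : Set X))).map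
        (Subgroup.centralizer ({x} : Set X)).subtype) := Q.2.map _
    obtain ⟨R, hR⟩ := hQ.exists_le_sylow
    have hRQ : (R : Subgroup X) ≤ Subgroup.centralizer ({x} : Set X) := by
      have hc : Nat.card ((Q : Subgroup (Subgroup.centralizer ({x} : Set X))).map
          (Subgroup.centralizer ({x} : Set X)).subtype) = Nat.card R := by
        rw [Subgroup.card_map_of_injective (Subgroup.subtype_injective _), Q.card_eq_multiplicity,
          R.card_eq_multiplicity, hcx]
      have h3 := Subgroup.eq_of_le_of_card_ge hR hc.ge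
      rw [← h3]
      rintro _ ⟨y, -, rfl⟩
      exact y.2
    obtain ⟨g, hg⟩ := MulAction.exists_smul_eq X R P
    have h4 : g * x * g⁻¹ ∈ K := by
      apply hC
      · rw [Subgroup.mem_centralizer_iff]
        intro y hy
        rw [← hg] at hy
        obtain ⟨r, hr, rfl⟩ := hy
        have h5 := Subgroup.mem_centralizer_singleton_iff.1 (hRQ hr)
        change g * r * g⁻¹ * (g * x * g⁻¹) = g * x * g⁻¹ * (g * r * g⁻¹)
        calc g * r * g⁻¹ * (g * x * g⁻¹) = g * (r * x) * g⁻¹ := by group
          _ = g * (x * r) * g⁻¹ := by rw [h5]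
          _ = g * x * g⁻¹ * (g * r * g⁻¹) := by group
      · have h6 : g * x * g⁻¹ = MulAut.conj g x := rfl
        rw [h6, MulEquiv.orderOf_eq]
        exact hx
    have h7 := Subgroup.Normal.conj_mem ‹K.Normal› _ h4 g⁻¹
    have h8 : g⁻¹ * (g * x * g⁻¹) * g⁻¹⁻¹ = x := by group
    rwa [h8] at h7
  rw [over_subtype_iff] at h1 h2
  have e1 := (S0963.result K χ ⟨θ, hθ⟩).1 h1 ⟨x, hxK⟩
  have e2 := (S0963.result K ψ ⟨θ, hθ⟩).1 h2 ⟨x, hxK⟩
  simp only at e1 e2
  rw [e1, e2, sub_self]
  exact Blocks.Fong.lideal_zero hMp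

end

section blocks
variable {G : Type u} [Group G] [Finite G] {p : ℕ} [hp : Fact p.Prime] {M : Ideal AlgInt}

/-- the form of the TI condition in the statements -/
theorem inf_eq_of_ti (P : Sylow p G) (hTI : ∀ g : G, g ∉ Subgroup.normalizer ((P : Subgroup G) : Set G) →
    (P : Subgroup G) ⊓ (MulAut.conj g • (P : Subgroup G)) = ⊥) (x : G) :
    (P : Subgroup G) ⊓ (P : Subgroup G).map (MulAut.conj x).toMonoidHom = ⊥ ∨
      (P : Subgroup G) ⊓ (P : Subgroup G).map (MulAut.conj x).toMonoidHom = P := by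
  by_cases hx : x ∈ Subgroup.normalizer ((P : Subgroup G) : Set G)
  · right
    have h1 : (P : Subgroup G).map (MulAut.conj x).toMonoidHom = P :=
      congrArg Sylow.toSubgroup (Sylow.smul_eq_iff_mem_normalizer.2 hx)
    rw [h1, inf_idem]
  · left
    exact hTI x hx

/-- Part I: the blocks `B` and `b` over a character of `K`. -/
theorem blocks_aux (hM : IsPModular p M) (P : Sylow p G) (N : Subgroup G)
    (hN : N = Subgroup.normalizer ((P : Subgroup G) : Set G)) (hP1 : (P : Subgroup G) ≠ ⊥)
    (hTI : ∀ g : G, g ∉ Subgroup.normalizer ((P : Subgroup G) : Set G) →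
      (P : Subgroup G) ⊓ (MulAut.conj g • (P : Subgroup G)) = ⊥)
    (K : Subgroup G) [hKn : K.Normal] (hK : ¬ p ∣ Nat.card K)
    (hKN : K ≤ N)
    (hC : ∀ x ∈ Subgroup.centralizer ((P : Subgroup G) : Set G), ¬ p ∣ orderOf x → x ∈ K)
    (B : Set (IrrCharacter G)) (hBP : IsDefectGroup p M B P)
    (b : Set (IrrCharacter N)) (hb : IsInducedBlock M N b B) :
    ∃ θ : K → ℂ, IsIrrCharacter K θ ∧
      (∀ χ : IrrCharacter G, χ ∈ B ↔ Over K.subtype (χ : G → ℂ) θ ∧ ¬ DZ p (χ : G → ℂ)) ∧
      (∀ ψ : IrrCharacter N, ψ ∈ b ↔ Over (Subgroup.inclusion hKN) (ψ : N → ℂ) θ) := by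
  classical
  letI := Fintype.ofFinite G
  letI := Fintype.ofFinite N
  letI := Fintype.ofFinite K
  have hMp := hM.2.1.isPrime
  have hbb : IsPBlock M b := hb.1
  have hBB : IsPBlock M B := hb.2.1
  obtain ⟨ξ, hξ⟩ := Blocks.Basic.isPBlock_nonempty hbb
  obtain ⟨θ, hθ, hξθ⟩ := exists_under (f := Subgroup.inclusion hKN) ξ.2
  obtain ⟨χ₀, hχ₀, h₀⟩ := S0934.result p M hM N b B hb ξ hξ
  have hχ₀θ : Over K.subtype (χ₀ : G → ℂ) θ := by
    have h1 : K.subtype = N.subtype.comp (Subgroup.inclusion hKN) := rfl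
    rw [h1, over_comp_iff _ _ (isIrr_isCharacter χ₀.2) hθ]
    refine ⟨ξ, ξ.2, ?_, hξθ⟩
    rw [over_subtype_iff]
    exact h₀
  have hPpos : 0 < (Nat.card (P : Subgroup G)).factorization p := by
    rw [P.card_eq_multiplicity, hp.out.factorization_pow, Finsupp.single_eq_same]
    rcases Nat.eq_zero_or_pos ((Nat.card G).factorization p) with h | h
    · exfalso
      apply hP1
      rw [← Subgroup.card_eq_one]
      change Nat.card (P : Subgroup G) = 1
      rw [P.card_eq_multiplicity, h, pow_zero]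
    · exact h
  have hBd : blockDefect p B = (Nat.card G).factorization p := by
    rw [← H592.Defect.factorization_card_defect p hM hBB hBP, P.card_eq_multiplicity,
      hp.out.factorization_pow, Finsupp.single_eq_same]
  refine ⟨θ, hθ, fun χ => ⟨fun hχ => ⟨?_, ?_⟩, fun hχ => ?_⟩, fun ψ => ⟨fun hψ => ?_, fun hψ => ?_⟩⟩
  · exact over_of_sameBlock hM K hK hθ (Blocks.Basic.isPBlock_sameBlock hBB hχ₀ hχ) hχ₀θ
  · intro hdz
    have h1 := blockDefect_of_dz hM hdz
    rw [← Blocks.Basic.isPBlock_eq_blockOf hBB hχ, ← H592.Defect.factorization_card_defect p hM hBB hBP] at h1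
    omega
  · refine Blocks.Basic.isPBlock_mem_of_sameBlock hBB hχ₀ ?_
    refine sameBlock_of_over hM P K hC hθ hχ₀θ hχ.1 ?_ (full_or_dz hM P (inf_eq_of_ti P hTI) χ hχ.2)
    rw [← Blocks.Basic.isPBlock_eq_blockOf hBB hχ₀, hBd]
  · haveI : (K.subgroupOf N).Normal := inferInstance
    have hK' : ¬ p ∣ Nat.card (K.subgroupOf N) := by
      rw [Nat.card_congr (Subgroup.subgroupOfEquivOfLe hKN).toEquiv]; exact hK
    rw [over_iff_sub hKN]
    rw [over_iff_sub hKN] at hξθ
    exact over_of_sameBlock hM (K.subgroupOf N) hK' (isIrr_sub hKN hθ)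
      (Blocks.Basic.isPBlock_sameBlock hbb hξ hψ) hξθ
  · haveI : (K.subgroupOf N).Normal := inferInstance
    have hPN : (P : Subgroup G) ≤ N := by rw [hN]; exact Subgroup.le_normalizer
    let P' : Sylow p N := P.subtype hPN
    have hP' : (P' : Subgroup N) = (P : Subgroup G).subgroupOf N := rfl
    have hP'n : (P' : Subgroup N).Normal := by
      rw [hP']; exact normal_subgroupOf hN.le
    haveI := P'.unique_of_normal hP'n
    have hconj : ∀ x : N, (P' : Subgroup N).map (MulAut.conj x).toMonoidHom = P' := fun x =>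
      congrArg Sylow.toSubgroup (Subsingleton.elim (x • P') P')
    have hC' : ∀ x ∈ Subgroup.centralizer ((P' : Subgroup N) : Set N), ¬ p ∣ orderOf x →
        x ∈ K.subgroupOf N := by
      intro x hx hxo
      rw [Subgroup.mem_subgroupOf]
      apply hC
      · rw [Subgroup.mem_centralizer_iff] at hx ⊢
        intro y hy
        exact congrArg Subtype.val (hx ⟨y, hPN hy⟩ (by rw [hP']; exact Subgroup.mem_subgroupOf.2 hy))
      · rw [Subgroup.orderOf_coe]; exact hxo
    have hPc : 0 < (Nat.card (P' : Subgroup N)).factorization p := by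
      have h1 : Nat.card (P' : Subgroup N) = Nat.card (P : Subgroup G) :=
        Nat.card_congr (Subgroup.subgroupOfEquivOfLe hPN).toEquiv
      rw [h1]; exact hPpos
    have hfull : ∀ φ : IrrCharacter N, blockDefect p (blockOf M (φ : N → ℂ)) = (Nat.card N).factorization p := by
      intro φ
      have hφB : IsPBlock M (blockOf M (φ : N → ℂ)) := ⟨φ, rfl⟩
      by_cases hd : DZ p (φ : N → ℂ)
      · exfalso
        obtain ⟨D, hD⟩ := H592.Defect.exists_defectGroup p hM hφB
        have hDp := H592.Defect.isPGroup_of_isDefectGroup hD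
        have hDP : D ≤ (P' : Subgroup N) := by
          obtain ⟨Q, hQ⟩ := hDp.exists_le_sylow
          rw [Subsingleton.elim Q P'] at hQ
          exact hQ
        obtain ⟨x, -, -, hx⟩ := S0956.result p M hM _ hφB _ hD P' hDP
        rw [hconj x, inf_idem] at hx
        have h4 := H592.Defect.factorization_card_defect p hM hφB hD
        rw [blockDefect_of_dz hM hd, ← hx] at h4
        omega
      · refine full_or_dz hM P' (fun x => Or.inr ?_) φ hd
        rw [hconj x, inf_idem]
    refine Blocks.Basic.isPBlock_mem_of_sameBlock hbb hξ ?_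
    rw [over_iff_sub hKN] at hψ hξθ
    exact sameBlock_of_over hM P' (K.subgroupOf N) hC' (isIrr_sub hKN hθ) hξθ hψ (hfull ξ) (hfull ψ)

end blocks

end Cfsg.Agent.H681.TI
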