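import Cfsg.Agent.H681.TI.Cliff
import Cfsg.Agent.S0188
import Cfsg.Agent.H622.Over

/-!
# S4819, Clifford part: central products, and the extension when `G_θ / KE` is cyclic (helper681)
-/

set_option autoImplicit false
set_option linter.style.haveILetI false
set_option linter.unusedSectionVars false

open Cfsg
open scoped Pointwise

namespace Cfsg.Agent.H681.TI

open Cfsg.Agent.H672 Cfsg.Agent.H672.RM Cfsg.Agent.H675.Nd Cfsg.Agent.Characters.Core

universe u v w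

section infl
variable {Y : Type v} {L : Type w} [Group Y] [Group L] [Finite Y] [Finite L]

/-- The characters of a homomorphic image. -/
theorem infl_ker_equiv (φ : Y →* L) (hφ : Function.Surjective φ) :
    ∃ E : IrrCharacter L ≃ {β : IrrCharacter Y // ∀ n ∈ φ.ker, (β : Y → ℂ) n = (β : Y → ℂ) 1},
      ∀ χ, ((E χ).1 : Y → ℂ) = (χ : L → ℂ) ∘ φ := by
  classical
  obtain ⟨E, hE⟩ := H604.Acd.exists_equiv_quotient φ.ker
  let e : Y ⧸ φ.ker ≃* L := QuotientGroup.quotientKerEquivOfSurjective φ hφ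
  refine ⟨(irrEquiv e).trans E, fun χ => ?_⟩
  change ((E (irrEquiv e χ)).1 : Y → ℂ) = _
  rw [hE]
  funext t
  rfl

end infl

section central
variable {G : Type u} [Group G] [Finite G]

/-- The characters of a central product over a character of one factor. -/
theorem central_equiv (K E L : Subgroup G) [hKn : K.Normal] (hcomm : ∀ k ∈ K, ∀ e ∈ E, k * e = e * k)
    (hKL : K ≤ L) (hEL : E ≤ L) (hL : L ≤ K ⊔ E) {θ : K → ℂ} (hθ : IsIrrCharacter K θ)
    (l : ↥(K ⊓ E) →* ℂˣ) (hl : ∀ z : ↥(K ⊓ E), θ ⟨z, z.2.1⟩ = (l z : ℂ) * θ 1) :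
    ∃ e : {η : IrrCharacter E // ∀ z : ↥(K ⊓ E), (η : E → ℂ) ⟨z, z.2.2⟩ = (l z : ℂ) * (η : E → ℂ) 1} ≃
      {ψ : IrrCharacter L // Over (Subgroup.inclusion hKL) (ψ : L → ℂ) θ},
      ∀ η, charDegree ((e η).1 : L → ℂ) = charDegree θ * charDegree (η.1 : E → ℂ) := by
  classical
  letI := Fintype.ofFinite K
  let φ : K × E →* L :=
    { toFun := fun x => ⟨(x.1 : G) * x.2, L.mul_mem (hKL x.1.2) (hEL x.2.2)⟩
      map_one' := Subtype.ext (by simp)
      map_mul' := fun x y => Subtype.ext (by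
        have h := hcomm y.1 y.1.2 x.2 x.2.2
        change (x.1 : G) * y.1 * (x.2 * y.2) = (x.1 : G) * x.2 * (y.1 * y.2)
        calc (x.1 : G) * y.1 * (x.2 * y.2) = x.1 * (y.1 * x.2) * y.2 := by group
          _ = x.1 * (x.2 * y.1) * y.2 := by rw [h]
          _ = _ := by group) }
  have hφ : Function.Surjective φ := by
    rintro ⟨x, hx⟩
    have h1 := hL hx
    rw [← SetLike.mem_coe, Subgroup.normal_mul] at h1
    obtain ⟨k, hk, e, he, rfl⟩ := h1
    exact ⟨(⟨k, hk⟩, ⟨e, he⟩), rfl⟩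
  obtain ⟨EE, hEE⟩ := infl_ker_equiv φ hφ
  have hθ0 := isIrr_apply_one_ne_zero hθ
  have hker : ∀ η : E → ℂ, (∀ z : ↥(K ⊓ E), η ⟨z, z.2.2⟩ = (l z : ℂ) * η 1) →
      ∀ n ∈ φ.ker, θ n.1 * η n.2 = θ (1 : K × E).1 * η (1 : K × E).2 := by
    rintro η hη ⟨⟨k, hk⟩, ⟨e, he⟩⟩ hn
    have h1 : k * e = 1 := congrArg Subtype.val ((MonoidHom.mem_ker).1 hn)
    have h2 : e = k⁻¹ := eq_inv_of_mul_eq_one_right h1
    subst h2
    have hkE : k ∈ E := by simpa using E.inv_mem he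
    have h3 := hl ⟨k, hk, hkE⟩
    have h4 := hη (⟨k, hk, hkE⟩⁻¹)
    have h5 : (l ⟨k, hk, hkE⟩ : ℂ) * (l (⟨k, hk, hkE⟩⁻¹) : ℂ) = 1 := by
      rw [← Units.val_mul, ← map_mul, mul_inv_cancel, map_one, Units.val_one]
    change θ ⟨k, hk⟩ * η ⟨k⁻¹, he⟩ = θ 1 * η 1
    have h6 : (⟨((⟨k, hk, hkE⟩⁻¹ : ↥(K ⊓ E)) : G), (⟨k, hk, hkE⟩⁻¹ : ↥(K ⊓ E)).2.2⟩ : E) = ⟨k⁻¹, he⟩ := rfl
    rw [h6] at h4
    rw [h3, h4]
    linear_combination (θ 1 * η 1) * h5
  let F : {η : IrrCharacter E // ∀ z : ↥(K ⊓ E), (η : E → ℂ) ⟨z, z.2.2⟩ = (l z : ℂ) * (η : E → ℂ) 1} →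
      IrrCharacter L := fun η => EE.symm
    ⟨⟨fun x : K × E => θ x.1 * (η.1 : E → ℂ) x.2, S0188.isIrr_outer hθ η.1.2⟩, hker _ η.2⟩
  have hF : ∀ η (x : K × E), (F η : L → ℂ) (φ x) = θ x.1 * (η.1 : E → ℂ) x.2 := by
    intro η x
    have h1 := hEE (F η)
    have h2 : EE (F η) = _ := EE.apply_symm_apply _
    rw [h2] at h1
    exact (congrFun h1 x).symm
  have hFK : ∀ η (k : K), (F η : L → ℂ) (Subgroup.inclusion hKL k) = (η.1 : E → ℂ) 1 * θ k := by
    intro η k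
    have h1 : Subgroup.inclusion hKL k = φ (k, 1) := Subtype.ext (by simp [φ])
    rw [h1, hF, mul_comm]
  have hFover : ∀ η, Over (Subgroup.inclusion hKL) (F η : L → ℂ) θ := by
    intro η
    rw [over_iff]
    have h1 : (F η : L → ℂ) ∘ Subgroup.inclusion hKL = ((η.1 : E → ℂ) 1) • θ := by
      funext k; exact hFK η k
    rw [h1, classInner_smul_left, classInner_irr_self hθ, mul_one]
    exact isIrr_apply_one_ne_zero η.1.2
  have hbij : Function.Bijective (fun η => (⟨F η, hFover η⟩ :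
      {ψ : IrrCharacter L // Over (Subgroup.inclusion hKL) (ψ : L → ℂ) θ})) := by
    constructor
    · intro η η' h
      have h1 : F η = F η' := congrArg Subtype.val h
      apply Subtype.ext
      apply Subtype.ext
      funext e
      have h2 := hF η (1, e)
      rw [h1, hF η' (1, e)] at h2
      exact (mul_left_cancel₀ hθ0 h2).symm
    · rintro ⟨ψ, hψ⟩
      have h1 : IsIrrCharacter (K × E) ((ψ : L → ℂ) ∘ φ) := isIrr_comp φ hφ ψ.2
      obtain ⟨a, η, ha, hη, hab⟩ := (S0188.result _).1 h1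
      have h2 : ∀ k : K, (ψ : L → ℂ) (Subgroup.inclusion hKL k) = η 1 * a k := by
        intro k
        have h3 : Subgroup.inclusion hKL k = φ (k, 1) := Subtype.ext (by simp [φ])
        have h4 := congrFun hab (k, 1)
        rw [h3, mul_comm]
        exact h4
      have hη0 := isIrr_apply_one_ne_zero hη
      have haθ : a = θ := by
        by_contra hne
        rw [over_iff] at hψ
        apply hψ
        have h3 : (ψ : L → ℂ) ∘ Subgroup.inclusion hKL = (η 1) • a := by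
          funext k; exact h2 k
        rw [h3, classInner_smul_left, classInner_irr_ne ha hθ hne, mul_zero]
      subst haθ
      have h5 : ∀ z : ↥(K ⊓ E), η ⟨z, z.2.2⟩ = (l z : ℂ) * η 1 := by
        intro z
        have h6 := congrFun hab (⟨z, z.2.1⟩⁻¹, ⟨z, z.2.2⟩)
        have h7 : φ (⟨z, z.2.1⟩⁻¹, ⟨z, z.2.2⟩) = φ 1 := Subtype.ext (by simp [φ])
        have h8 := congrFun hab 1
        simp only [Function.comp] at h6 h8
        rw [h7, h8] at h6
        have h9 := hl z⁻¹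
        have h10 : (⟨((z⁻¹ : ↥(K ⊓ E)) : G), (z⁻¹ : ↥(K ⊓ E)).2.1⟩ : K) = (⟨z, z.2.1⟩ : K)⁻¹ := rfl
        rw [h10] at h9
        rw [h9] at h6
        have h11 : (l z : ℂ) * (l z⁻¹ : ℂ) = 1 := by
          rw [← Units.val_mul, ← map_mul, mul_inv_cancel, map_one, Units.val_one]
        change a 1 * η 1 = _ at h6
        have h12 : a 1 * η ⟨z, z.2.2⟩ = a 1 * ((l z : ℂ) * η 1) := by
          linear_combination (-(l z : ℂ)) * h6 - (a 1 * η ⟨z, z.2.2⟩) * h11
        exact mul_left_cancel₀ hθ0 h12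
      refine ⟨⟨⟨η, hη⟩, h5⟩, ?_⟩
      apply Subtype.ext
      apply EE.injective
      apply Subtype.ext
      apply Subtype.ext
      rw [hEE ψ, hab]
      funext x
      rw [hEE]
      exact hF ⟨⟨η, hη⟩, h5⟩ x
  refine ⟨Equiv.ofBijective _ hbij, fun η => ?_⟩
  apply charDegree_of_eq
  push_cast
  rw [coe_charDegree hθ, coe_charDegree η.1.2]
  have h1 := hF η 1
  rw [map_one] at h1
  exact h1

/-- The defect zero condition in a central product with a `p'`-group. -/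
theorem dz_central {p : ℕ} [hp : Fact p.Prime] {K E L : Subgroup G} [hKn : K.Normal] (hK : ¬ p ∣ Nat.card K)
    (hcomm : ∀ k ∈ K, ∀ e ∈ E, k * e = e * k) (hKL : K ≤ L) (hEL : E ≤ L) (hL : L ≤ K ⊔ E)
    {θ : K → ℂ} (hθ : IsIrrCharacter K θ) {η : E → ℂ} (hη : IsIrrCharacter E η) {ψ : L → ℂ}
    (h : charDegree ψ = charDegree θ * charDegree η) : DZ p ψ ↔ DZ p η := by
  have h5 : (charDegree θ).factorization p = 0 := by
    apply Nat.factorization_eq_zero_of_not_dvd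
    exact fun h => hK (h.trans (Blocks.Knorr.charDegree_dvd hθ))
  have h6 : (Nat.card L).factorization p = (Nat.card E).factorization p := by
    have h7 : L = K ⊔ E := le_antisymm hL (sup_le hKL hEL)
    have h8 : Nat.card L ∣ Nat.card K * Nat.card E := by
      rw [← Nat.card_prod]
      let φ : K × E →* L :=
        { toFun := fun x => ⟨(x.1 : G) * x.2, L.mul_mem (hKL x.1.2) (hEL x.2.2)⟩
          map_one' := Subtype.ext (by simp)
          map_mul' := fun x y => Subtype.ext (by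
            have h := hcomm y.1 y.1.2 x.2 x.2.2
            change (x.1 : G) * y.1 * (x.2 * y.2) = (x.1 : G) * x.2 * (y.1 * y.2)
            calc (x.1 : G) * y.1 * (x.2 * y.2) = x.1 * (y.1 * x.2) * y.2 := by group
              _ = x.1 * (x.2 * y.1) * y.2 := by rw [h]
              _ = _ := by group) }
      refine Subgroup.card_dvd_of_surjective φ ?_
      rintro ⟨x, hx⟩
      have h1 := hL hx
      rw [← SetLike.mem_coe, Subgroup.normal_mul] at h1
      obtain ⟨k, hk, e, he, rfl⟩ := h1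
      exact ⟨(⟨k, hk⟩, ⟨e, he⟩), rfl⟩
    have h9 : Nat.card E ∣ Nat.card L := Subgroup.card_dvd_of_le hEL
    apply le_antisymm
    · have h10 := (Nat.factorization_le_iff_dvd Nat.card_pos.ne'
        (mul_ne_zero Nat.card_pos.ne' Nat.card_pos.ne')).2 h8 p
      rw [Nat.factorization_mul Nat.card_pos.ne' Nat.card_pos.ne', Finsupp.add_apply,
        Nat.factorization_eq_zero_of_not_dvd hK, zero_add] at h10
      exact h10
    · exact (Nat.factorization_le_iff_dvd Nat.card_pos.ne' Nat.card_pos.ne').2 h9 p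
  unfold DZ
  rw [h, h6, Nat.factorization_mul (Blocks.Basic.charDegree_pos hθ).ne' (Blocks.Basic.charDegree_pos hη).ne',
    Finsupp.add_apply, h5, zero_add]

/-- The condition at `θ` when the stabiliser is the central product `K E`. -/
theorem cond_of_central {p : ℕ} [hp : Fact p.Prime] (P : Sylow p G) (K E T : Subgroup G) [hKn : K.Normal]
    (hK : ¬ p ∣ Nat.card K) (hKC : K ≤ Subgroup.centralizer ((P : Subgroup G) : Set G))
    (hcomm : ∀ k ∈ K, ∀ e ∈ E, k * e = e * k)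
    (hKT : K ≤ T) (hET : E ≤ T) (hT : T ≤ K ⊔ E) {θ : K → ℂ} (hθ : IsIrrCharacter K θ)
    (l : ↥(K ⊓ E) →* ℂˣ) (hl : ∀ z : ↥(K ⊓ E), θ ⟨z, z.2.1⟩ = (l z : ℂ) * θ 1)
    (hrow : Nat.card {η : IrrCharacter E // (∀ z : ↥(K ⊓ E), (η : E → ℂ) ⟨z, z.2.2⟩ = (l z : ℂ) * (η : E → ℂ) 1) ∧
        ¬ DZ p (η : E → ℂ)} =
      Nat.card {η : IrrCharacter (Subgroup.normalizer ((P : Subgroup G) : Set G) ⊓ E : Subgroup G) //
        ∀ z : ↥(K ⊓ E), (η : (Subgroup.normalizer ((P : Subgroup G) : Set G) ⊓ E : Subgroup G) → ℂ)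
          ⟨z, (le_nrm hKC) z.2.1, z.2.2⟩ = (l z : ℂ) *
            (η : (Subgroup.normalizer ((P : Subgroup G) : Set G) ⊓ E : Subgroup G) → ℂ) 1}) :
    cND p (Subgroup.inclusion hKT) θ = cAll (Subgroup.inclusion (le_inf (le_nrm hKC) hKT)) θ := by
  classical
  set N := Subgroup.normalizer ((P : Subgroup G) : Set G) with hN
  have hKN : K ≤ N := le_nrm hKC
  obtain ⟨e, he⟩ := central_equiv K E T hcomm hKT hET hT hθ l hl
  have h1 : cND p (Subgroup.inclusion hKT) θ = Nat.card {η : IrrCharacter E //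
      (∀ z : ↥(K ⊓ E), (η : E → ℂ) ⟨z, z.2.2⟩ = (l z : ℂ) * (η : E → ℂ) 1) ∧ ¬ DZ p (η : E → ℂ)} := by
    symm
    refine Nat.card_congr ?_
    refine (Equiv.subtypeSubtypeEquivSubtypeInter _ _).symm.trans
      (Equiv.trans ?_ (Equiv.subtypeSubtypeEquivSubtypeInter _ _))
    refine e.subtypeEquiv fun η => ?_
    exact (dz_central hK hcomm hKT hET hT hθ η.1.2 (he η)).not.symm
  let ι : ↥(K ⊓ (N ⊓ E)) →* ↥(K ⊓ E) := Subgroup.inclusion (inf_le_inf_left K inf_le_right)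
  obtain ⟨e', -⟩ := central_equiv K (N ⊓ E) (N ⊓ T) (fun k hk x hx => hcomm k hk x hx.2) (le_inf hKN hKT)
    (inf_le_inf_left N hET) (by
      rintro x ⟨hxN, hxT⟩
      have h2 := hT hxT
      rw [← SetLike.mem_coe, Subgroup.normal_mul] at h2
      obtain ⟨k, hk, y, hy, rfl⟩ := h2
      refine Subgroup.mul_mem_sup hk ⟨?_, hy⟩
      have h3 : y = k⁻¹ * (k * y) := by group
      rw [h3]
      exact N.mul_mem (N.inv_mem (hKN hk)) hxN) hθ (l.comp ι) (fun z => hl (ι z))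
  have h2 : cAll (Subgroup.inclusion (le_inf hKN hKT)) θ = Nat.card {η : IrrCharacter (N ⊓ E : Subgroup G) //
        ∀ z : ↥(K ⊓ E), (η : (N ⊓ E : Subgroup G) → ℂ)
          ⟨z, hKN z.2.1, z.2.2⟩ = (l z : ℂ) * (η : (N ⊓ E : Subgroup G) → ℂ) 1} := by
    unfold cAll
    rw [← Nat.card_congr e']
    refine Nat.card_congr (Equiv.subtypeEquivRight fun η => ?_)
    constructor
    · intro h z
      exact h ⟨z, z.2.1, hKN z.2.1, z.2.2⟩
    · intro h z
      exact h (ι z)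
  rw [h1, h2]
  exact hrow

/-- The extension of `θ` when it is trivial on `K ∩ E` and `T / K E` is cyclic. -/
theorem exists_ext_of_cyclic (K E T : Subgroup G) [hKn : K.Normal] [hEn : E.Normal]
    (hcomm : ∀ k ∈ K, ∀ e ∈ E, k * e = e * k) (hKT : K ≤ T) (hET : E ≤ T)
    {θ : K → ℂ} (hθ : IsIrrCharacter K θ) (hTst : T ≤ stab θ)
    (htriv : ∀ z : ↥(K ⊓ E), θ ⟨z, z.2.1⟩ = θ 1) (hcyc : IsCyclic (T ⧸ (K ⊔ E).subgroupOf T)) :
    ∃ χ : T → ℂ, IsIrrCharacter T χ ∧ ∀ k : K, χ (Subgroup.inclusion hKT k) = θ k := by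
  classical
  letI := Fintype.ofFinite K
  -- `θ` comes from `K / (K ∩ E) = K E / E`
  set L := K ⊔ E with hL
  have hLT : L ≤ T := sup_le hKT hET
  let ρ : L →* L ⧸ E.subgroupOf L := QuotientGroup.mk' _
  let κ : K →* L ⧸ E.subgroupOf L := ρ.comp (Subgroup.inclusion le_sup_left)
  have hκ : Function.Surjective κ := by
    intro y
    obtain ⟨⟨x, hx⟩, rfl⟩ := QuotientGroup.mk'_surjective _ y
    have h1 := hx
    rw [hL, ← SetLike.mem_coe, Subgroup.normal_mul] at h1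
    obtain ⟨k, hk, e, he, rfl⟩ := h1
    refine ⟨⟨k, hk⟩, ?_⟩
    change QuotientGroup.mk' _ _ = QuotientGroup.mk' _ _
    rw [QuotientGroup.mk'_eq_mk']
    exact ⟨⟨e, (le_sup_right : E ≤ L) he⟩, Subgroup.mem_subgroupOf.2 he, rfl⟩
  obtain ⟨EE, hEE⟩ := infl_ker_equiv κ hκ
  have hker : ∀ n ∈ κ.ker, θ n = θ 1 := by
    intro n hn
    have h1 : (Subgroup.inclusion (le_sup_left : K ≤ L) n) ∈ E.subgroupOf L :=
      (QuotientGroup.eq_one_iff _).1 ((MonoidHom.mem_ker).1 hn)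
    exact htriv ⟨n, n.2, h1⟩
  obtain ⟨θb, hθb⟩ : ∃ θb : IrrCharacter (L ⧸ E.subgroupOf L), (θb : L ⧸ E.subgroupOf L → ℂ) ∘ κ = θ := by
    refine ⟨EE.symm ⟨⟨θ, hθ⟩, hker⟩, ?_⟩
    rw [← hEE, Equiv.apply_symm_apply]
  have hθL : IsIrrCharacter L ((θb : L ⧸ E.subgroupOf L → ℂ) ∘ ρ) :=
    isIrr_comp ρ (QuotientGroup.mk'_surjective _) θb.2
  haveI : (L.subgroupOf T).Normal := inferInstance
  obtain ⟨χ, hχ, hχL⟩ := S0886.result (L.subgroupOf T) hcyc
    (((θb : L ⧸ E.subgroupOf L → ℂ) ∘ ρ) ∘ Subgroup.subgroupOfEquivOfLe hLT)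
    (isIrr_sub hLT hθL) (by
      intro g n
      have hval : ∀ (x : G) (hx : x ∈ L) (k : G) (hk : k ∈ K) (e : G) (he : e ∈ E), x = k * e →
          (θb : L ⧸ E.subgroupOf L → ℂ) (ρ ⟨x, hx⟩) = θ ⟨k, hk⟩ := by
        rintro x hx k hk e he rfl
        rw [← hθb]
        change _ = (θb : L ⧸ E.subgroupOf L → ℂ) (ρ (Subgroup.inclusion le_sup_left ⟨k, hk⟩))
        symm
        refine congrArg (θb : L ⧸ E.subgroupOf L → ℂ) ?_
        change (QuotientGroup.mk' (E.subgroupOf L)) _ = (QuotientGroup.mk' (E.subgroupOf L)) _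
        rw [QuotientGroup.mk'_eq_mk']
        exact ⟨⟨e, (le_sup_right : E ≤ L) he⟩, Subgroup.mem_subgroupOf.2 he, rfl⟩
      have hnL : ((n : T) : G) ∈ L := n.2
      have h1 : ((n : T) : G) ∈ ((K ⊔ E : Subgroup G) : Set G) := n.2
      rw [Subgroup.normal_mul] at h1
      obtain ⟨k, hk, e, he, hke⟩ := h1
      have hke' : ((n : T) : G) = k * e := hke.symm
      have h2 := hval _ hnL k hk e he hke'
      have hgk : (g : G) * k * (g : G)⁻¹ ∈ K := hKn.conj_mem k hk g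
      have hge : (g : G) * e * (g : G)⁻¹ ∈ E := hEn.conj_mem e he g
      have hgn : (g : G) * ((n : T) : G) * (g : G)⁻¹ ∈ L := by
        rw [hke', show (g : G) * (k * e) * (g : G)⁻¹ = ((g : G) * k * (g : G)⁻¹) * ((g : G) * e * (g : G)⁻¹) by group]
        exact Subgroup.mul_mem_sup hgk hge
      have h3 := hval _ hgn _ hgk _ hge (by rw [hke']; group)
      have h4 : θ ⟨(g : G) * k * (g : G)⁻¹, hgk⟩ = θ ⟨k, hk⟩ := by
        have h5 := (hTst g.2).2
        have h6 := tw_apply' (hTst g.2).1 θ ⟨k, hk⟩ ⟨(g : G) * k * (g : G)⁻¹, hgk⟩ rfl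
        rw [h5] at h6
        exact h6.symm
      change (θb : L ⧸ E.subgroupOf L → ℂ) (ρ ⟨_, _⟩) = (θb : L ⧸ E.subgroupOf L → ℂ) (ρ ⟨_, _⟩)
      exact h3.trans (h4.trans h2.symm))
  refine ⟨χ, hχ, fun k => ?_⟩
  have h1 := hχL ⟨Subgroup.inclusion hKT k, Subgroup.mem_subgroupOf.2 ((le_sup_left : K ≤ L) k.2)⟩
  change χ (Subgroup.inclusion hKT k) = _ at h1
  rw [h1]
  exact congrFun hθb k

end central

end Cfsg.Agent.H681.TI
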