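import Cfsg.Agent.H681.TI.Blk
import Cfsg.Agent.H604.Acd

/-!
# S4819, Clifford part: counting characters over a character of a normal subgroup (helper681)

* `Inert.equiv` : the Clifford correspondence as a bijection; `cND_clifford`, `cAll_clifford`;
* `gal_equiv` : Gallagher's theorem as a bijection with the characters of the quotient; `cND_of_ext`, `cAll_of_ext`.
-/

set_option autoImplicit false
set_option linter.style.haveILetI false
set_option linter.unusedSectionVars false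

open Cfsg
open scoped Pointwise

namespace Cfsg.Agent.H681.TI

open Cfsg.Agent.H672 Cfsg.Agent.H672.RM Cfsg.Agent.H675.Nd Cfsg.Agent.Characters.Core

universe u v w

/-- number of the characters over `θ` not of defect zero -/
noncomputable def cND (p : ℕ) {X : Type u} [Group X] {H : Type v} [Group H] [Finite H] (f : H →* X) (θ : H → ℂ) : ℕ :=
  Nat.card {χ : IrrCharacter X // Over f (χ : X → ℂ) θ ∧ ¬ DZ p (χ : X → ℂ)}

/-- number of the characters over `θ` -/
noncomputable def cAll {X : Type u} [Group X] {H : Type v} [Group H] [Finite H] (f : H →* X) (θ : H → ℂ) : ℕ :=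
  Nat.card {χ : IrrCharacter X // Over f (χ : X → ℂ) θ}

section iso
variable {X : Type u} {Y : Type w} {H : Type v} {H' : Type*} [Group X] [Group Y] [Group H] [Group H']
  [Finite H] [Finite H'] [Finite X] [Finite Y]

theorem dz_comp (p : ℕ) (e : X ≃* Y) (χ : Y → ℂ) : DZ p (χ ∘ e) ↔ DZ p χ := by
  unfold DZ
  rw [show charDegree (χ ∘ e) = charDegree χ from charDegree_comp_one e.toMonoidHom _,
    Nat.card_congr e.toEquiv]

theorem over_comp (e : X ≃* Y) (e0 : H ≃* H') (f : H →* X) (f' : H' →* Y)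
    (hf : ∀ h, f' (e0 h) = e (f h)) (θ : H → ℂ) (θ' : H' → ℂ) (hθ : ∀ h, θ' (e0 h) = θ h) (χ : Y → ℂ) :
    Over f (χ ∘ e) θ ↔ Over f' χ θ' := by
  rw [← over_comp_equiv f' e0]
  have e1 : (f'.comp e0.toMonoidHom) = e.toMonoidHom.comp f := by
    ext h; exact hf h
  have e2 : θ' ∘ e0 = θ := funext hθ
  rw [e1, e2]
  rfl

theorem cND_congr (p : ℕ) (e : X ≃* Y) (e0 : H ≃* H') (f : H →* X) (f' : H' →* Y)
    (hf : ∀ h, f' (e0 h) = e (f h)) (θ : H → ℂ) (θ' : H' → ℂ) (hθ : ∀ h, θ' (e0 h) = θ h) :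
    cND p f θ = cND p f' θ' := by
  symm
  refine Nat.card_congr ((irrEquiv e).subtypeEquiv ?_)
  intro χ
  exact ((over_comp e e0 f f' hf θ θ' hθ (χ : Y → ℂ)).symm.and (dz_comp p e (χ : Y → ℂ)).not.symm)

theorem cAll_congr (e : X ≃* Y) (e0 : H ≃* H') (f : H →* X) (f' : H' →* Y)
    (hf : ∀ h, f' (e0 h) = e (f h)) (θ : H → ℂ) (θ' : H' → ℂ) (hθ : ∀ h, θ' (e0 h) = θ h) :
    cAll f θ = cAll f' θ' := by
  symm
  refine Nat.card_congr ((irrEquiv e).subtypeEquiv ?_)
  intro χ
  exact (over_comp e e0 f f' hf θ θ' hθ (χ : Y → ℂ)).symm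

end iso

section cliff
variable {G : Type u} [Group G] [Finite G] {K T U : Subgroup G} {θ : K → ℂ}

/-- The Clifford correspondence as a bijection. -/
theorem inert_equiv (h : Inert K T U θ) :
    ∃ e : {η : IrrCharacter T // Over (Subgroup.inclusion h.KT) (η : T → ℂ) θ} ≃
      {ψ : IrrCharacter U // Over (Subgroup.inclusion h.le) (ψ : U → ℂ) θ},
      ∀ η, charDegree ((e η).1 : U → ℂ) = T.relIndex U * charDegree (η.1 : T → ℂ) := by
  classical
  letI := Fintype.ofFinite U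
  letI := Fintype.ofFinite (T.subgroupOf U)
  choose ψ hψ h1 h2 h3 using fun η : {η : IrrCharacter T // Over (Subgroup.inclusion h.KT) (η : T → ℂ) θ} =>
    h.lift η.1.2 η.2
  let F : {η : IrrCharacter T // Over (Subgroup.inclusion h.KT) (η : T → ℂ) θ} →
      {ψ : IrrCharacter U // Over (Subgroup.inclusion h.le) (ψ : U → ℂ) θ} := fun η =>
    ⟨⟨ψ η, hψ η⟩, h2 η⟩
  have hF : Function.Bijective F := by
    constructor
    · intro η η' he
      have e1 : ψ η = ψ η' := congrArg (fun x => ((x.1 : IrrCharacter U) : U → ℂ)) he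
      apply Subtype.ext
      apply Subtype.ext
      refine h.unique η.1.2 η'.1.2 η.2 η'.2 (hψ η) (h1 η) ?_
      rw [e1]
      exact h1 η'
    · rintro ⟨φ, hφ⟩
      obtain ⟨η, hη, ho, hψη, -⟩ := h.exists_eta φ.2 hφ
      refine ⟨⟨⟨η, hη⟩, ho⟩, ?_⟩
      apply Subtype.ext
      apply Subtype.ext
      have e1 := eq_indFun_of_over _ (h.irr_ind hη ho) φ.2 ((h.over_sub_iff _ η).2 hψη)
      have e2 := eq_indFun_of_over _ (h.irr_ind hη ho) (hψ ⟨⟨η, hη⟩, ho⟩)
        ((h.over_sub_iff _ η).2 (h1 ⟨⟨η, hη⟩, ho⟩))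
      exact e2.trans e1.symm
  exact ⟨Equiv.ofBijective F hF, fun η => h3 η⟩

theorem cAll_clifford (h : Inert K T U θ) :
    cAll (Subgroup.inclusion h.le) θ = cAll (Subgroup.inclusion h.KT) θ := by
  obtain ⟨e, -⟩ := inert_equiv h
  exact (Nat.card_congr e).symm

theorem dz_mul {p : ℕ} [hp : Fact p.Prime] {T U : Subgroup G} (hTU : T ≤ U) {η : T → ℂ} (hη : IsIrrCharacter T η)
    {ψ : U → ℂ} (h : charDegree ψ = T.relIndex U * charDegree η) : DZ p ψ ↔ DZ p η := by
  unfold DZ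
  have h1 : Nat.card U = T.relIndex U * Nat.card T := by
    have h0 := (T.subgroupOf U).card_mul_index
    rw [Nat.card_congr (Subgroup.subgroupOfEquivOfLe hTU).toEquiv, mul_comm] at h0
    exact h0.symm
  have h2 : T.relIndex U ≠ 0 := Subgroup.index_ne_zero_of_finite
  rw [h, h1, Nat.factorization_mul h2 (Blocks.Basic.charDegree_pos hη).ne',
    Nat.factorization_mul h2 Nat.card_pos.ne', Finsupp.add_apply, Finsupp.add_apply]
  omega

theorem cND_clifford {p : ℕ} [hp : Fact p.Prime] (h : Inert K T U θ) :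
    cND p (Subgroup.inclusion h.le) θ = cND p (Subgroup.inclusion h.KT) θ := by
  obtain ⟨e, he⟩ := inert_equiv h
  symm
  refine Nat.card_congr ?_
  refine (Equiv.subtypeSubtypeEquivSubtypeInter _ _).symm.trans
    (Equiv.trans ?_ (Equiv.subtypeSubtypeEquivSubtypeInter _ _))
  refine e.subtypeEquiv fun η => ?_
  exact (dz_mul h.TU η.1.2 (he η)).not.symm

end cliff

section ext
variable {G : Type u} [Group G] [Finite G] {K T : Subgroup G} {θ : K → ℂ} {Q : Type w} [Group Q] [Finite Q]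

/-- The characters of the quotient. -/
theorem infl_equiv (hKT : K ≤ T) (π : T →* Q) (hπ : Function.Surjective π)
    (hker : ∀ t : T, π t = 1 ↔ (t : G) ∈ K) :
    ∃ E : IrrCharacter Q ≃ {β : IrrCharacter T // ∀ k : K, (β : T → ℂ) (Subgroup.inclusion hKT k) = (β : T → ℂ) 1},
      ∀ χ, ((E χ).1 : T → ℂ) = (χ : Q → ℂ) ∘ π := by
  classical
  obtain ⟨E, hE⟩ := H604.Acd.exists_equiv_quotient π.ker
  let e : T ⧸ π.ker ≃* Q := QuotientGroup.quotientKerEquivOfSurjective π hπ
  have hiff : ∀ χ : IrrCharacter T, (∀ n ∈ π.ker, (χ : T → ℂ) n = (χ : T → ℂ) 1) ↔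
      ∀ k : K, (χ : T → ℂ) (Subgroup.inclusion hKT k) = (χ : T → ℂ) 1 := by
    intro χ
    constructor
    · intro h k
      exact h _ ((MonoidHom.mem_ker).2 ((hker _).2 k.2))
    · intro h n hn
      exact h ⟨n, (hker n).1 ((MonoidHom.mem_ker).1 hn)⟩
  refine ⟨((irrEquiv e).trans E).trans (Equiv.subtypeEquivRight hiff), fun χ => ?_⟩
  change ((E (irrEquiv e χ)).1 : T → ℂ) = _
  rw [hE]
  funext t
  rfl

/-- Gallagher's theorem as a bijection. -/
theorem gal_equiv (hKT : K ≤ T) (hT : T ≤ Subgroup.normalizer (K : Set G)) (hθ : IsIrrCharacter K θ)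
    {χ : T → ℂ} (hχ : IsIrrCharacter T χ) (hres : ∀ k : K, χ (Subgroup.inclusion hKT k) = θ k)
    (π : T →* Q) (hπ : Function.Surjective π) (hker : ∀ t : T, π t = 1 ↔ (t : G) ∈ K) :
    ∃ e : IrrCharacter Q ≃ {ψ : IrrCharacter T // Over (Subgroup.inclusion hKT) (ψ : T → ℂ) θ},
      ∀ β, charDegree ((e β).1 : T → ℂ) = charDegree (β : Q → ℂ) * charDegree θ := by
  classical
  obtain ⟨E, hE⟩ := infl_equiv hKT π hπ hker
  have hb := gal hKT hT hθ hχ hres
  let F : {β : IrrCharacter T // ∀ k : K, (β : T → ℂ) (Subgroup.inclusion hKT k) = (β : T → ℂ) 1} →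
      {ψ : IrrCharacter T // Over (Subgroup.inclusion hKT) (ψ : T → ℂ) θ} := fun β =>
    ⟨⟨(β.1 : T → ℂ) * χ, (hb.mapsTo ⟨β.1.2, β.2⟩).1⟩, (hb.mapsTo ⟨β.1.2, β.2⟩).2⟩
  have hF : Function.Bijective F := by
    constructor
    · intro β β' h
      have h1 : (β.1 : T → ℂ) * χ = (β'.1 : T → ℂ) * χ := congrArg (fun x => ((x.1 : IrrCharacter T) : T → ℂ)) h
      apply Subtype.ext
      apply Subtype.ext
      exact hb.injOn ⟨β.1.2, β.2⟩ ⟨β'.1.2, β'.2⟩ h1
    · rintro ⟨ψ, hψ⟩
      obtain ⟨β, hβ, hβ'⟩ := hb.surjOn ⟨ψ.2, hψ⟩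
      exact ⟨⟨⟨β, hβ.1⟩, hβ.2⟩, Subtype.ext (Subtype.ext hβ')⟩
  refine ⟨E.trans (Equiv.ofBijective F hF), fun β => ?_⟩
  have h1 : (((E.trans (Equiv.ofBijective F hF)) β).1 : T → ℂ) = ((β : Q → ℂ) ∘ π) * χ := by
    change ((E β).1 : T → ℂ) * χ = _
    rw [hE]
  have hirr := ((E.trans (Equiv.ofBijective F hF)) β).1.2
  apply charDegree_of_eq
  rw [h1]
  push_cast
  rw [coe_charDegree β.2, coe_charDegree hθ, Pi.mul_apply, Function.comp, map_one]
  congr 1
  have := hres 1
  rwa [map_one] at this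

/-- the count when `θ` extends -/
theorem cAll_of_ext (hKT : K ≤ T) (hT : T ≤ Subgroup.normalizer (K : Set G)) (hθ : IsIrrCharacter K θ)
    {χ : T → ℂ} (hχ : IsIrrCharacter T χ) (hres : ∀ k : K, χ (Subgroup.inclusion hKT k) = θ k)
    (π : T →* Q) (hπ : Function.Surjective π) (hker : ∀ t : T, π t = 1 ↔ (t : G) ∈ K) :
    cAll (Subgroup.inclusion hKT) θ = Nat.card (ConjClasses Q) := by
  obtain ⟨e, -⟩ := gal_equiv hKT hT hθ hχ hres π hπ hker
  rw [← card_irr]
  exact (Nat.card_congr e).symm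

theorem cND_of_ext {p : ℕ} [hp : Fact p.Prime] (hpK : ¬ p ∣ Nat.card K)
    (hKT : K ≤ T) (hT : T ≤ Subgroup.normalizer (K : Set G)) (hθ : IsIrrCharacter K θ)
    {χ : T → ℂ} (hχ : IsIrrCharacter T χ) (hres : ∀ k : K, χ (Subgroup.inclusion hKT k) = θ k)
    (π : T →* Q) (hπ : Function.Surjective π) (hker : ∀ t : T, π t = 1 ↔ (t : G) ∈ K) :
    cND p (Subgroup.inclusion hKT) θ = Nat.card {β : IrrCharacter Q // ¬ DZ p (β : Q → ℂ)} := by
  obtain ⟨e, he⟩ := gal_equiv hKT hT hθ hχ hres π hπ hker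
  symm
  refine Nat.card_congr ?_
  refine Equiv.trans ?_ (Equiv.subtypeSubtypeEquivSubtypeInter _ _)
  refine e.subtypeEquiv fun β => not_congr ?_
  have h1 : Nat.card T = Nat.card Q * Nat.card K := by
    have h2 := π.ker.card_eq_card_quotient_mul_card_subgroup
    rw [Nat.card_congr (QuotientGroup.quotientKerEquivOfSurjective π hπ).toEquiv] at h2
    rw [h2]
    congr 1
    have h3 : π.ker = K.subgroupOf T := by
      ext t
      rw [MonoidHom.mem_ker, hker, Subgroup.mem_subgroupOf]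
    rw [h3]
    exact Nat.card_congr (Subgroup.subgroupOfEquivOfLe hKT).toEquiv
  have h4 : (Nat.card K).factorization p = 0 := Nat.factorization_eq_zero_of_not_dvd hpK
  have h5 : (charDegree θ).factorization p = 0 := by
    apply Nat.factorization_eq_zero_of_not_dvd
    exact fun h => hpK (h.trans (Blocks.Knorr.charDegree_dvd hθ))
  unfold DZ
  rw [he, h1, Nat.factorization_mul (Blocks.Basic.charDegree_pos β.2).ne' (Blocks.Basic.charDegree_pos hθ).ne',
    Nat.factorization_mul Nat.card_pos.ne' Nat.card_pos.ne', Finsupp.add_apply, Finsupp.add_apply, h4, h5]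
  omega

/-- the row condition = S4820 for `Q` -/
def RowEq (p : ℕ) (Q : Type w) [Group Q] : Prop :=
  ∀ R : Sylow p Q, Nat.card {β : IrrCharacter Q // ¬ DZ p (β : Q → ℂ)} =
    Nat.card (ConjClasses (Subgroup.normalizer ((R : Subgroup Q) : Set Q)))

theorem rowEq_of (p : ℕ) (h : ∀ R : Sylow p Q, Nat.card (ConjClasses Q) =
    Nat.card (ConjClasses (Subgroup.normalizer ((R : Subgroup Q) : Set Q))) +
      Nat.card {β : IrrCharacter Q // (charDegree (β : Q → ℂ)).factorization p = (Nat.card Q).factorization p}) :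
    RowEq p Q := by
  classical
  intro R
  have h1 := h R
  haveI := finite_irr (G := Q)
  haveI := Fintype.ofFinite (IrrCharacter Q)
  rw [← card_irr] at h1
  have h2 : Nat.card (IrrCharacter Q) = Nat.card {β : IrrCharacter Q // DZ p (β : Q → ℂ)} +
      Nat.card {β : IrrCharacter Q // ¬ DZ p (β : Q → ℂ)} := by
    simp only [Nat.card_eq_fintype_card]
    rw [Fintype.card_subtype_compl]
    have := Fintype.card_subtype_le (fun β : IrrCharacter Q => DZ p (β : Q → ℂ))
    omega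
  have h3 : Nat.card {β : IrrCharacter Q // DZ p (β : Q → ℂ)} =
    Nat.card {β : IrrCharacter Q // (charDegree (β : Q → ℂ)).factorization p = (Nat.card Q).factorization p} := rfl
  omega

end ext

end Cfsg.Agent.H681.TI
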