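import Cfsg.Agent.H681.TI.Central
import Cfsg.Agent.H540.ClassNum

/-!
# S4819, Clifford part: the assembly (helper681)

`G` finite with TI Sylow `p`-subgroup `P`, `K` a normal `p'`-subgroup, `E` a normal subgroup containing `P` and
centralising `K`, `K` contains the `p'`-elements of `C(P)`, `G / K E` is cyclic. Then `k(B) = k(b)` for all blocks `B`
with defect group `P` and `b` of `N(P)` inducing `B`, if

* `hrow` : for all `T ≥ K E` the group `T / K` satisfies `RowEq`, i.e. `k(T/K) = k(N_{T/K}(P)) + #dz(T/K)` (S4820);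
* `hlin` : for all `θ ∈ Irr K` not trivial on `Z = K ∩ E`, `θ_Z = θ(1) l`: the stabiliser of `θ` is `K E` and
  `#{η ∈ Irr(E | l), not dz} = #Irr(N_E(P) | l)`.

`card_eq_of_disjoint` : the case `K ∩ E = 1`; `card_eq_of_prod` : the case `G = K × E`.
-/

set_option autoImplicit false
set_option linter.style.haveILetI false
set_option linter.unusedSectionVars false

open Cfsg
open scoped Pointwise

namespace Cfsg.Agent.H681.TI

open Cfsg.Agent.H672 Cfsg.Agent.H672.RM Cfsg.Agent.H675.Nd Cfsg.Agent.Characters.Core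

universe u v w

theorem RowEq.congr {p : ℕ} [hp : Fact p.Prime] {Q : Type v} {Q' : Type w} [Group Q] [Group Q'] [Finite Q] [Finite Q']
    (h : RowEq p Q) (e : Q ≃* Q') : RowEq p Q' := by
  intro R'
  let R : Sylow p Q := R'.comapOfInjective e.toMonoidHom e.injective (by
    rw [MonoidHom.range_eq_top.2 e.surjective]; exact le_top)
  have hR : (R : Subgroup Q) = (R' : Subgroup Q').comap e.toMonoidHom := rfl
  have h1 := h R
  have h2 : Nat.card {β : IrrCharacter Q' // ¬ DZ p (β : Q' → ℂ)} = Nat.card {β : IrrCharacter Q // ¬ DZ p (β : Q → ℂ)} :=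
    Nat.card_congr ((irrEquiv e).subtypeEquiv fun χ => (dz_comp p e (χ : Q' → ℂ)).not.symm)
  rw [h2, h1]
  have hmem : ∀ x : Q, e x ∈ Subgroup.normalizer ((R' : Subgroup Q') : Set Q') ↔
      x ∈ Subgroup.normalizer ((R : Subgroup Q) : Set Q) := by
    intro x
    rw [Subgroup.mem_normalizer_iff, Subgroup.mem_normalizer_iff]
    constructor
    · intro hx y
      have h3 := hx (e y)
      rw [hR]
      change e y ∈ (R' : Subgroup Q') ↔ e (x * y * x⁻¹) ∈ (R' : Subgroup Q')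
      rw [map_mul, map_mul, map_inv]
      exact h3
    · intro hx y
      obtain ⟨y, rfl⟩ := e.surjective y
      have h3 := hx y
      rw [hR] at h3
      change e y ∈ (R' : Subgroup Q') ↔ e (x * y * x⁻¹) ∈ (R' : Subgroup Q') at h3
      rw [map_mul, map_mul, map_inv] at h3
      exact h3
  refine H540.ClassNum.card_conjClasses_congr
    { toFun := fun x => ⟨e x, (hmem x).2 x.2⟩
      invFun := fun y => ⟨e.symm y, (hmem _).1 (by rw [MulEquiv.apply_symm_apply]; exact y.2)⟩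
      left_inv := fun x => Subtype.ext (e.symm_apply_apply _)
      right_inv := fun y => Subtype.ext (e.apply_symm_apply _)
      map_mul' := fun x y => Subtype.ext (map_mul e _ _) }

section final
variable {G : Type u} [Group G] [Finite G] {p : ℕ} [hp : Fact p.Prime]

theorem le_stab_of_comm {K E : Subgroup G} [hKn : K.Normal] (hcomm : ∀ k ∈ K, ∀ e ∈ E, k * e = e * k) (θ : K → ℂ) :
    E ≤ stab θ := by
  intro x hx
  have hxn : x ∈ Subgroup.normalizer (K : Set G) := by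
    rw [Subgroup.normalizer_eq_top]; exact Subgroup.mem_top x
  refine mem_stab.2 ⟨hxn, ?_⟩
  funext k
  rw [tw_apply hxn]
  congr 1
  apply Subtype.ext
  change x * (k : G) * x⁻¹ = k
  rw [← hcomm k k.2 x hx, mul_inv_cancel_right]

theorem isCyclic_sub {L T : Subgroup G} [hLn : L.Normal] (h : IsCyclic (G ⧸ L)) : IsCyclic (T ⧸ L.subgroupOf T) := by
  let f : T →* G ⧸ L := (QuotientGroup.mk' L).comp T.subtype
  have hf : f.ker = L.subgroupOf T := by
    ext t
    rw [MonoidHom.mem_ker, Subgroup.mem_subgroupOf]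
    exact QuotientGroup.eq_one_iff _
  have h1 : IsCyclic (T ⧸ f.ker) := isCyclic_of_injective (QuotientGroup.kerLift f) (QuotientGroup.kerLift_injective f)
  exact isCyclic_of_surjective (QuotientGroup.quotientMulEquivOfEq hf) (QuotientGroup.quotientMulEquivOfEq hf).surjective

/-- The general assembly. -/
theorem card_eq_of_rows {M : Ideal AlgInt} (hM : IsPModular p M) (P : Sylow p G) (hP1 : (P : Subgroup G) ≠ ⊥)
    (hTI : ∀ g : G, g ∉ Subgroup.normalizer ((P : Subgroup G) : Set G) →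
      (P : Subgroup G) ⊓ (MulAut.conj g • (P : Subgroup G)) = ⊥)
    (K : Subgroup G) [hKn : K.Normal] (hK : ¬ p ∣ Nat.card K)
    (hC : ∀ x ∈ Subgroup.centralizer ((P : Subgroup G) : Set G), ¬ p ∣ orderOf x → x ∈ K)
    (E : Subgroup G) [hEn : E.Normal] (hPE : (P : Subgroup G) ≤ E)
    (hcomm : ∀ k ∈ K, ∀ e ∈ E, k * e = e * k) (hcyc : IsCyclic (G ⧸ (K ⊔ E)))
    (hrow : ∀ T : Subgroup G, K ⊔ E ≤ T → RowEq p (T ⧸ K.subgroupOf T))
    (hlin : ∀ (θ : K → ℂ), IsIrrCharacter K θ → ∀ l : ↥(K ⊓ E) →* ℂˣ,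
      (∀ z : ↥(K ⊓ E), θ ⟨z, z.2.1⟩ = (l z : ℂ) * θ 1) → l ≠ 1 → stab θ ≤ K ⊔ E ∧
        Nat.card {η : IrrCharacter E // (∀ z : ↥(K ⊓ E), (η : E → ℂ) ⟨z, z.2.2⟩ = (l z : ℂ) * (η : E → ℂ) 1) ∧
          ¬ DZ p (η : E → ℂ)} =
        Nat.card {η : IrrCharacter (Subgroup.normalizer ((P : Subgroup G) : Set G) ⊓ E : Subgroup G) //
          ∀ z : ↥(K ⊓ E), ∀ hz : (z : G) ∈ Subgroup.normalizer ((P : Subgroup G) : Set G) ⊓ E,
            (η : (Subgroup.normalizer ((P : Subgroup G) : Set G) ⊓ E : Subgroup G) → ℂ) ⟨z, hz⟩ = (l z : ℂ) *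
              (η : (Subgroup.normalizer ((P : Subgroup G) : Set G) ⊓ E : Subgroup G) → ℂ) 1})
    (B : Set (IrrCharacter G)) (hBP : IsDefectGroup p M B P)
    (b : Set (IrrCharacter (Subgroup.normalizer ((P : Subgroup G) : Set G))))
    (hb : IsInducedBlock M (Subgroup.normalizer ((P : Subgroup G) : Set G)) b B) :
    Nat.card B = Nat.card b := by
  classical
  have hKC : K ≤ Subgroup.centralizer ((P : Subgroup G) : Set G) := by
    intro k hk
    rw [Subgroup.mem_centralizer_iff]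
    intro x hx
    exact (hcomm k hk x (hPE hx)).symm
  refine card_eq_of_cond hM P hP1 hTI K hK hKC hC (fun θ hθ => ?_) B hBP b hb
  have hKT : K ≤ stab θ := le_stab (isIrr_isClassFunction hθ)
  have hET : E ≤ stab θ := le_stab_of_comm hcomm θ
  -- the central character
  obtain ⟨c, hc⟩ := H622.Over.exists_hom (N := (K ⊓ E).subgroupOf K) (by
    intro z hz
    rw [Subgroup.mem_center_iff]
    intro k
    exact Subtype.ext (hcomm k k.2 z (Subgroup.mem_subgroupOf.1 hz).2)) hθ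
  let l : ↥(K ⊓ E) →* ℂˣ := c.comp
    ((Subgroup.subgroupOfEquivOfLe (inf_le_left : K ⊓ E ≤ K)).symm.toMonoidHom)
  have hl : ∀ z : ↥(K ⊓ E), θ ⟨z, z.2.1⟩ = (l z : ℂ) * θ 1 := by
    intro z
    have h1 := hc 1 ⟨⟨z, z.2.1⟩, Subgroup.mem_subgroupOf.2 z.2⟩
    rw [one_mul, mul_comm] at h1
    exact h1
  by_cases hl1 : l = 1
  · have htriv : ∀ z : ↥(K ⊓ E), θ ⟨z, z.2.1⟩ = θ 1 := by
      intro z
      rw [hl, hl1, MonoidHom.one_apply, Units.val_one, one_mul]
    obtain ⟨χ, hχ, hres⟩ := exists_ext_of_cyclic K E (stab θ) hcomm hKT hET hθ le_rfl htriv (isCyclic_sub hcyc)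
    refine cond_of_ext P K hK hKC hθ hKT (hPE.trans hET) hχ hres (QuotientGroup.mk' (K.subgroupOf (stab θ)))
      (QuotientGroup.mk'_surjective _) ?_ (hrow _ (sup_le hKT hET))
    intro t
    rw [← Subgroup.mem_subgroupOf]
    exact QuotientGroup.eq_one_iff _
  · obtain ⟨h1, h2⟩ := hlin θ hθ l hl hl1
    refine cond_of_central P K E (stab θ) hK hKC hcomm hKT hET h1 hθ l hl ?_
    rw [h2]
    refine Nat.card_congr (Equiv.subtypeEquivRight fun η => ?_)
    exact ⟨fun h z => h z _, fun h z _ => h z⟩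

/-- The case `K ∩ E = 1`. -/
theorem card_eq_of_disjoint {M : Ideal AlgInt} (hM : IsPModular p M) (P : Sylow p G) (hP1 : (P : Subgroup G) ≠ ⊥)
    (hTI : ∀ g : G, g ∉ Subgroup.normalizer ((P : Subgroup G) : Set G) →
      (P : Subgroup G) ⊓ (MulAut.conj g • (P : Subgroup G)) = ⊥)
    (K : Subgroup G) [hKn : K.Normal] (hK : ¬ p ∣ Nat.card K)
    (hC : ∀ x ∈ Subgroup.centralizer ((P : Subgroup G) : Set G), ¬ p ∣ orderOf x → x ∈ K)
    (E : Subgroup G) [hEn : E.Normal] (hPE : (P : Subgroup G) ≤ E)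
    (hcomm : ∀ k ∈ K, ∀ e ∈ E, k * e = e * k) (hcyc : IsCyclic (G ⧸ (K ⊔ E)))
    (hrow : ∀ T : Subgroup G, K ⊔ E ≤ T → RowEq p (T ⧸ K.subgroupOf T)) (hdisj : K ⊓ E = ⊥)
    (B : Set (IrrCharacter G)) (hBP : IsDefectGroup p M B P)
    (b : Set (IrrCharacter (Subgroup.normalizer ((P : Subgroup G) : Set G))))
    (hb : IsInducedBlock M (Subgroup.normalizer ((P : Subgroup G) : Set G)) b B) :
    Nat.card B = Nat.card b := by
  refine card_eq_of_rows hM P hP1 hTI K hK hC E hPE hcomm hcyc hrow (fun θ _ l _ hl => ?_) B hBP b hb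
  exfalso
  apply hl
  ext z
  have h1 : z = 1 := Subtype.ext (Subgroup.mem_bot.1 (hdisj ▸ z.2))
  rw [h1, map_one, map_one]

/-- The case `G = K × E`. -/
theorem card_eq_of_prod {M : Ideal AlgInt} (hM : IsPModular p M) (P : Sylow p G) (hP1 : (P : Subgroup G) ≠ ⊥)
    (hTI : ∀ g : G, g ∉ Subgroup.normalizer ((P : Subgroup G) : Set G) →
      (P : Subgroup G) ⊓ (MulAut.conj g • (P : Subgroup G)) = ⊥)
    (K : Subgroup G) [hKn : K.Normal] (hK : ¬ p ∣ Nat.card K)
    (hC : ∀ x ∈ Subgroup.centralizer ((P : Subgroup G) : Set G), ¬ p ∣ orderOf x → x ∈ K)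
    (E : Subgroup G) [hEn : E.Normal] (hPE : (P : Subgroup G) ≤ E)
    (hcomm : ∀ k ∈ K, ∀ e ∈ E, k * e = e * k) (hsup : K ⊔ E = ⊤) (hdisj : K ⊓ E = ⊥) (hrow : RowEq p (G ⧸ K))
    (B : Set (IrrCharacter G)) (hBP : IsDefectGroup p M B P)
    (b : Set (IrrCharacter (Subgroup.normalizer ((P : Subgroup G) : Set G))))
    (hb : IsInducedBlock M (Subgroup.normalizer ((P : Subgroup G) : Set G)) b B) :
    Nat.card B = Nat.card b := by
  refine card_eq_of_disjoint hM P hP1 hTI K hK hC E hPE hcomm ?_ (fun T hT => ?_) hdisj B hBP b hb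
  · have : Subsingleton (G ⧸ (K ⊔ E)) := by
      refine ⟨fun a b => ?_⟩
      obtain ⟨x, rfl⟩ := QuotientGroup.mk'_surjective _ a
      obtain ⟨y, rfl⟩ := QuotientGroup.mk'_surjective _ b
      have h1 : ∀ x : G, QuotientGroup.mk' (K ⊔ E) x = 1 := fun x =>
        (QuotientGroup.eq_one_iff x).2 (hsup ▸ Subgroup.mem_top x)
      rw [h1, h1]
    exact isCyclic_of_subsingleton
  · rw [hsup, top_le_iff] at hT
    subst hT
    refine hrow.congr (QuotientGroup.congr K (K.subgroupOf ⊤) Subgroup.topEquiv.symm ?_)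
    ext x
    constructor
    · rintro ⟨y, hy, rfl⟩
      exact hy
    · intro hx
      exact ⟨x, hx, rfl⟩

end final

end Cfsg.Agent.H681.TI
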